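import Mathlib

/-!
Isometries of a six-dimensional alternating form without an invariant hyperbolic plane, through the
self-adjoint operator `s = a + a⁻¹`: either `s` is cubic and `a` is cyclic over it, or `±a` is unipotent of
Jordan type `(3, 3)`.
-/

set_option autoImplicit false
set_option linter.unusedSectionVars false

namespace CfsgLib.NormalCover.SpSix

open Polynomial Module
open LinearMap (BilinForm)

variable {F V : Type*} [Field F] [AddCommGroup V] [Module F V]

/-- `a + a⁻¹`. -/
def sOp (a : V ≃ₗ[F] V) : Module.End F V := a.toLinearMap + a.symm.toLinearMap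

/-- An invariant hyperbolic plane. -/
def HasPlane (B : BilinForm F V) (a : V ≃ₗ[F] V) : Prop :=
  ∃ u w : V, B u w = 1 ∧ a u ∈ Submodule.span F {u, w} ∧ a w ∈ Submodule.span F {u, w}

/-- `a` is cyclic and `m` kills `a + a⁻¹`. -/
def Cyc (a : V ≃ₗ[F] V) (m : F[X]) : Prop :=
  aeval (sOp a) m = 0 ∧ ∃ x : V, ∀ P R : F[X], P.degree < m.degree → R.degree < m.degree →
    aeval (sOp a) P x + aeval (sOp a) R (a x) = 0 → P = 0 ∧ R = 0

/-- Unipotent of Jordan type `(3, 3)` up to the trivial part. -/
def Unip3 (a : V ≃ₗ[F] V) : Prop :=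
  (∀ v, a (a (a v)) - 3 • a (a v) + 3 • a v - v = 0) ∧ ∃ v, a (a v) - 2 • a v + v ≠ 0

theorem sOp_apply (a : V ≃ₗ[F] V) (v : V) : sOp a v = a v + a.symm v := rfl

theorem sOp_comm (a : V ≃ₗ[F] V) (v : V) : sOp a (a v) = a (sOp a v) := by
  simp [sOp_apply, map_add]

theorem aeval_comm (a : V ≃ₗ[F] V) (P : F[X]) : ∀ v, aeval (sOp a) P (a v) = a (aeval (sOp a) P v) := by
  induction P using Polynomial.induction_on with
  | C c => intro v; simp
  | add P R hP hR => intro v; simp [hP, hR]
  | monomial k c ih =>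
    intro v
    rw [pow_succ, ← mul_assoc, map_mul, aeval_X, Module.End.mul_apply, Module.End.mul_apply, sOp_comm, ih]

theorem aeval_mul_apply (s : Module.End F V) (P R : F[X]) (v : V) :
    aeval s (P * R) v = aeval s P (aeval s R v) := by rw [map_mul]; rfl

theorem aeval_linear (s : Module.End F V) (c : F) (v : V) : aeval s (X - C c) v = s v - c • v := by
  simp

variable {B : BilinForm F V} {a : V ≃ₗ[F] V}

/-- The standing hypotheses. -/
structure Setup (B : BilinForm F V) (a : V ≃ₗ[F] V) : Prop where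
  two : (2 : F) ≠ 0
  alt : B.IsAlt
  nondeg : B.SeparatingLeft
  iso : ∀ u v, B (a u) (a v) = B u v

namespace Setup

variable (S : Setup B a)
include S

theorem flip (u v : V) : B v u = -B u v := (LinearMap.IsAlt.neg S.alt u v).symm

theorem adj (u v : V) : B (a u) v = B u (a.symm v) := by
  conv_lhs => rw [← a.apply_symm_apply v, S.iso]

theorem adj' (u v : V) : B (a.symm u) v = B u (a v) := by
  conv_rhs => rw [← a.apply_symm_apply u, S.iso]

theorem self_adj (u v : V) : B (sOp a u) v = B u (sOp a v) := by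
  simp only [sOp_apply, map_add, LinearMap.add_apply, S.adj, S.adj', add_comm]

theorem aeval_adj (P : F[X]) : ∀ u v, B (aeval (sOp a) P u) v = B u (aeval (sOp a) P v) := by
  induction P using Polynomial.induction_on with
  | C c => intro u v; simp
  | add P R hP hR => intro u v; simp [hP, hR]
  | monomial k c ih =>
    intro u v
    have hc : aeval (sOp a) (C c * X ^ k * X) = aeval (sOp a) (X * (C c * X ^ k)) := by rw [mul_comm]
    rw [pow_succ, ← mul_assoc]
    conv_rhs => rw [hc, aeval_mul_apply, aeval_X, ← S.self_adj, ← ih]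
    rw [aeval_mul_apply, aeval_X]

theorem self_zero (P : F[X]) (x : V) : B (aeval (sOp a) P x) x = 0 := by
  have h := S.aeval_adj P x x
  rw [S.flip (aeval (sOp a) P x) x] at h
  have h' : (2 : F) * B (aeval (sOp a) P x) x = 0 := by linear_combination h
  exact (mul_eq_zero.1 h').resolve_left S.two

theorem sOp_self (x : V) : B (sOp a x) x = 0 := by
  simpa using S.self_zero X x

theorem ti (P R : F[X]) (x : V) : B (aeval (sOp a) P x) (aeval (sOp a) R x) = 0 := by
  rw [← S.aeval_adj, ← aeval_mul_apply]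
  exact S.self_zero _ _

/-- A vector moved off its line inside an eigenspace of `s` gives an invariant plane. -/
theorem plane_of_eigen {v : V} {c : F} (hv : sOp a v = c • v) (h : B v (a v) ≠ 0) : HasPlane B a := by
  refine ⟨v, (B v (a v))⁻¹ • a v, by rw [map_smul, smul_eq_mul, inv_mul_cancel₀ h], ?_, ?_⟩
  · refine Submodule.mem_span_pair.2 ⟨0, B v (a v), ?_⟩
    rw [zero_smul, zero_add, smul_smul, mul_inv_cancel₀ h, one_smul]
  · refine Submodule.mem_span_pair.2 ⟨-(B v (a v))⁻¹, c, ?_⟩
    have h2 : a (a v) = c • a v - v := by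
      rw [sOp_apply] at hv
      rw [← map_smul, ← hv, map_add, a.apply_symm_apply, add_sub_cancel_right]
    rw [map_smul, h2]
    module

/-- Polarisation of `v ↦ B v (a v)`. -/
theorem polar_zero {W : Submodule F V} (h : ∀ v ∈ W, B v (a v) = 0) {u v : V} (hu : u ∈ W) (hv : v ∈ W) :
    B u (a v - a.symm v) = 0 := by
  have h1 := h _ (W.add_mem hu hv)
  simp only [map_add, LinearMap.add_apply, h u hu, h v hv, zero_add, add_zero] at h1
  rw [← S.adj' v u, S.flip u (a.symm v)] at h1
  rw [map_sub]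
  linear_combination h1

theorem plane_of_two {W : Submodule F V} [FiniteDimensional F V] (hd : finrank F W = 2)
    (hinv : ∀ v ∈ W, a v ∈ W) (hW : ∀ v ∈ W, (∀ u ∈ W, B v u = 0) → v = 0) : HasPlane B a := by
  obtain ⟨u, hu, hu0⟩ := Submodule.exists_mem_ne_zero_of_ne_bot
    (show W ≠ ⊥ from fun h => by rw [h, finrank_bot] at hd; omega)
  obtain ⟨w, hw, huw⟩ : ∃ w ∈ W, B u w ≠ 0 := by
    by_contra h; push Not at h; exact hu0 (hW u hu h)
  have heq : Submodule.span F {u, (B u w)⁻¹ • w} = W := by
    refine Submodule.eq_of_le_of_finrank_eq (Submodule.span_le.2 ?_) ?_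
    · rintro z (rfl | rfl)
      · exact hu
      · exact W.smul_mem _ hw
    · have hli : LinearIndependent F ![u, (B u w)⁻¹ • w] := (LinearIndependent.pair_iff' hu0).2 fun c hc => by
        have := congrArg (B u) hc
        rw [map_smul, map_smul, S.alt.self_eq_zero, smul_zero, smul_eq_mul, inv_mul_cancel₀ huw] at this
        exact zero_ne_one this
      have := finrank_span_eq_card (R := F) hli
      rw [Matrix.range_cons_cons_empty, Fintype.card_fin] at this
      rw [this, hd]
  exact ⟨u, (B u w)⁻¹ • w, by rw [map_smul, smul_eq_mul, inv_mul_cancel₀ huw],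
    heq.symm ▸ hinv u hu, heq.symm ▸ hinv _ (W.smul_mem _ hw)⟩

theorem not_one_three {W : Submodule F V} [FiniteDimensional F V]
    (hW : ∀ v ∈ W, (∀ u ∈ W, B v u = 0) → v = 0) : finrank F W ≠ 1 ∧ finrank F W ≠ 3 := by
  refine ⟨fun h => ?_, fun h => ?_⟩
  all_goals
    obtain ⟨u, hu, hu0⟩ := Submodule.exists_mem_ne_zero_of_ne_bot
      (show W ≠ ⊥ from fun h' => by rw [h', finrank_bot] at h; omega)
    obtain ⟨w, hw, huw⟩ : ∃ w ∈ W, B u w ≠ 0 := by
      by_contra hc; push Not at hc; exact hu0 (hW u hu hc)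
  · have heq : Submodule.span F {u} = W := Submodule.eq_of_le_of_finrank_eq
      ((Submodule.span_singleton_le_iff_mem _ _).2 hu) (by rw [finrank_span_singleton hu0, h])
    rw [← heq] at hw
    obtain ⟨c, rfl⟩ := Submodule.mem_span_singleton.1 hw
    exact huw (by rw [map_smul, S.alt.self_eq_zero, smul_zero])
  · let L : W →ₗ[F] F × F := ((B u).comp W.subtype).prod ((B w).comp W.subtype)
    have hL := LinearMap.finrank_range_add_finrank_ker L
    have hle := Submodule.finrank_le (LinearMap.range L)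
    rw [finrank_prod, finrank_self] at hle
    obtain ⟨z, hz, hz0⟩ := Submodule.exists_mem_ne_zero_of_ne_bot
      (show LinearMap.ker L ≠ ⊥ from fun h' => by rw [h', finrank_bot] at hL; omega)
    rw [LinearMap.mem_ker] at hz
    have hzu : B u z.1 = 0 := congrArg Prod.fst hz
    have hzw : B w z.1 = 0 := congrArg Prod.snd hz
    have hli : LinearIndependent F ![u, w, z.1] := by
      rw [Fintype.linearIndependent_iff]
      intro g hg
      simp only [Fin.sum_univ_three, Matrix.cons_val_zero, Matrix.cons_val_one, Matrix.cons_val_two,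
        Matrix.head_cons, Matrix.tail_cons] at hg
      have e1 := congrArg (B u) hg
      have e2 := congrArg (B w) hg
      simp [S.alt.self_eq_zero, hzu, huw] at e1
      simp [S.alt.self_eq_zero, hzw, S.flip u w, huw] at e2
      rw [e1, e2, zero_smul, zero_smul, zero_add, zero_add, smul_eq_zero] at hg
      intro i
      fin_cases i
      · exact e2
      · exact e1
      · exact hg.resolve_right fun h0 => hz0 (Subtype.ext h0)
    have heq : Submodule.span F (Set.range ![u, w, z.1]) = W := by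
      refine Submodule.eq_of_le_of_finrank_eq (Submodule.span_le.2 ?_) ?_
      · rintro _ ⟨i, rfl⟩; fin_cases i
        · exact hu
        · exact hw
        · exact z.2
      · rw [finrank_span_eq_card hli, Fintype.card_fin, h]
    refine hz0 (Subtype.ext (hW z.1 z.2 fun v hv => ?_))
    rw [← heq] at hv
    induction hv using Submodule.span_induction with
    | mem v hv =>
      obtain ⟨i, rfl⟩ := hv
      fin_cases i
      · show B z.1 u = 0; rw [S.flip, hzu, neg_zero]
      · show B z.1 w = 0; rw [S.flip, hzw, neg_zero]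
      · exact S.alt.self_eq_zero _
    | zero => rw [map_zero]
    | add v v' _ _ e e' => rw [map_add, e, e', add_zero]
    | smul c v _ e => rw [map_smul, e, smul_zero]

/-- A coprime factorisation of the polynomial of `s` gives a plane. -/
theorem plane_of_coprime [FiniteDimensional F V] (hdim : finrank F V = 6) {p r : F[X]} (hpr : IsCoprime p r)
    (h0 : aeval (sOp a) (p * r) = 0) (hp : aeval (sOp a) p ≠ 0) (hr : aeval (sOp a) r ≠ 0) :
    HasPlane B a := by
  obtain ⟨b, b', hb⟩ := hpr
  let W₁ := LinearMap.ker (aeval (sOp a) p)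
  let W₂ := LinearMap.ker (aeval (sOp a) r)
  have hne₁ : W₁ ≠ ⊥ := fun h => hr (LinearMap.ext fun v =>
    LinearMap.ker_eq_bot.1 h (by rw [← aeval_mul_apply, h0]; simp))
  have hne₂ : W₂ ≠ ⊥ := fun h => hp (LinearMap.ext fun v =>
    LinearMap.ker_eq_bot.1 h (by rw [← aeval_mul_apply, mul_comm, h0]; simp))
  have hsplit : ∀ v, v = aeval (sOp a) (b * p) v + aeval (sOp a) (b' * r) v := fun v => by
    rw [← LinearMap.add_apply, ← map_add, hb, map_one]; rfl
  have h1 : ∀ v, aeval (sOp a) (b' * r) v ∈ W₁ := fun v => by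
    rw [LinearMap.mem_ker, ← aeval_mul_apply, show p * (b' * r) = b' * (p * r) by ring, map_mul, h0, mul_zero,
      LinearMap.zero_apply]
  have h2 : ∀ v, aeval (sOp a) (b * p) v ∈ W₂ := fun v => by
    rw [LinearMap.mem_ker, ← aeval_mul_apply, show r * (b * p) = b * (p * r) by ring, map_mul, h0, mul_zero,
      LinearMap.zero_apply]
  have horth : ∀ u ∈ W₁, ∀ v ∈ W₂, B u v = 0 := fun u hu v hv => by
    rw [LinearMap.mem_ker] at hu hv
    rw [hsplit v, aeval_mul_apply _ b' r, hv, map_zero, add_zero, ← S.aeval_adj, aeval_mul_apply, hu, map_zero,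
      map_zero, LinearMap.zero_apply]
  have hnd₁ : ∀ v ∈ W₁, (∀ u ∈ W₁, B v u = 0) → v = 0 := fun v hv h => S.nondeg v fun z => by
    rw [hsplit z, map_add, horth v hv _ (h2 z), h _ (h1 z), add_zero]
  have hnd₂ : ∀ v ∈ W₂, (∀ u ∈ W₂, B v u = 0) → v = 0 := fun v hv h => S.nondeg v fun z => by
    rw [hsplit z, map_add, h _ (h2 z), S.flip, horth _ (h1 z) v hv, neg_zero, add_zero]
  have hinv : ∀ (P : F[X]) (v : V), v ∈ LinearMap.ker (aeval (sOp a) P) → a v ∈ LinearMap.ker (aeval (sOp a) P) :=
    fun P v hv => by rw [LinearMap.mem_ker] at hv ⊢; rw [aeval_comm, hv, map_zero]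
  have hcompl : IsCompl W₁ W₂ := by
    refine ⟨Submodule.disjoint_def.2 fun v hv hv' => hnd₁ v hv fun u hu => ?_,
      codisjoint_iff.2 (eq_top_iff.2 fun v _ => ?_)⟩
    · rw [S.flip, horth u hu v hv', neg_zero]
    · rw [hsplit v, add_comm]; exact Submodule.add_mem_sup (h1 v) (h2 v)
  have hsum := Submodule.finrank_add_eq_of_isCompl hcompl
  rw [hdim] at hsum
  have hp1 : 0 < finrank F W₁ := Nat.pos_of_ne_zero fun h => hne₁ (Submodule.finrank_eq_zero.1 h)
  have hp2 : 0 < finrank F W₂ := Nat.pos_of_ne_zero fun h => hne₂ (Submodule.finrank_eq_zero.1 h)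
  obtain ⟨e1, e2⟩ := S.not_one_three hnd₁
  obtain ⟨e3, -⟩ := S.not_one_three hnd₂
  rcases (by omega : finrank F W₁ = 2 ∨ finrank F W₂ = 2) with h | h
  · exact S.plane_of_two h (hinv p) hnd₁
  · exact S.plane_of_two h (hinv r) hnd₂

omit S in
theorem annihilator_pow {π : F[X]} (hπ : Irreducible π) {k : ℕ} (hk : aeval (sOp a) (π ^ (k + 1)) = 0) {x : V}
    (hx : aeval (sOp a) (π ^ k) x ≠ 0) {g : F[X]} (hg : g.degree < (π ^ (k + 1)).degree)
    (h : aeval (sOp a) g x = 0) : g = 0 := by
  by_contra hg0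
  obtain ⟨i, g', hg', rfl⟩ := WfDvdMonoid.max_power_factor hg0 hπ
  obtain ⟨b, b', hb⟩ : IsCoprime g' (π ^ (k + 1)) := ((hπ.coprime_iff_not_dvd).2 hg').symm.pow_right
  have h1 : aeval (sOp a) (π ^ i) x = 0 := by
    have e : π ^ i = b * (π ^ i * g') + (b' * π ^ i) * π ^ (k + 1) := by linear_combination -(π ^ i) * hb
    rw [e, map_add, LinearMap.add_apply, aeval_mul_apply, h, map_zero, aeval_mul_apply, hk, LinearMap.zero_apply,
      map_zero, add_zero]
  rcases Nat.lt_or_ge k i with hi | hi
  · have := degree_le_of_dvd ((pow_dvd_pow π hi).trans (dvd_mul_right _ g')) hg0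
    exact absurd hg (not_lt.2 this)
  · exact hx (by rw [← Nat.sub_add_cancel hi, pow_add, aeval_mul_apply, h1, map_zero])

theorem degree_le_three [FiniteDimensional F V] (hdim : finrank F V = 6) {m : F[X]} {x : V}
    (hann : ∀ g : F[X], g.degree < m.degree → aeval (sOp a) g x = 0 → g = 0) : m.natDegree ≤ 3 := by
  by_contra hlt
  push Not at hlt
  let L : Polynomial.degreeLT F 4 →ₗ[F] V :=
    { toFun := fun g => aeval (sOp a) g.1 x
      map_add' := fun g g' => by simp
      map_smul' := fun c g => by simp }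
  have hinj : Function.Injective L := by
    rw [injective_iff_map_eq_zero]
    intro g hg
    refine Subtype.ext (hann g.1 ((Polynomial.mem_degreeLT.1 g.2).trans_le ?_) hg)
    calc (4 : WithBot ℕ) ≤ (m.natDegree : WithBot ℕ) := by exact_mod_cast hlt
      _ = m.degree := (degree_eq_natDegree fun h => by rw [h] at hlt; simp at hlt).symm
  have hr : finrank F (LinearMap.range L) = 4 := by
    rw [LinearMap.finrank_range_of_inj hinj, (Polynomial.degreeLTEquiv F 4).finrank_eq, finrank_fin_fun]
  have hle : LinearMap.range L ≤ B.orthogonal (LinearMap.range L) := by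
    rintro _ ⟨g, rfl⟩ _ ⟨g', rfl⟩
    exact S.ti _ _ _
  have h2 := Submodule.finrank_mono hle
  have hB : B.Nondegenerate := ⟨S.nondeg, fun v hv => S.nondeg v fun u => by rw [S.flip, hv, neg_zero]⟩
  rw [LinearMap.BilinForm.finrank_orthogonal hB, hdim, hr] at h2
  omega

/-- The orthogonal of `F[s]x + F[s]y` for a quadratic `s`. -/
theorem exists_complement [FiniteDimensional F V] (hdim : finrank F V = 6) {m₀ m₁ : F}
    (hm : ∀ v, sOp a (sOp a v) + m₁ • sOp a v + m₀ • v = 0) {x : V} (hx : x ≠ 0)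
    (hsx : ∀ c : F, c • x ≠ sOp a x) :
    ∃ (y w₁ w₂ : V) (e : F), B w₁ w₂ = 1 ∧ sOp a w₁ = e • w₁ ∧ sOp a w₂ = e • w₂ ∧
      B x y = 0 ∧ B (sOp a x) y = 1 ∧
      (∀ w ∈ ({w₁, w₂} : Set V), B x w = 0 ∧ B (sOp a x) w = 0 ∧ B y w = 0 ∧ B (sOp a y) w = 0) ∧
      ∀ v, ∃ c₁ c₂ c₃ c₄ c₅ c₆ : F,
        v = c₁ • x + c₂ • sOp a x + c₃ • y + c₄ • sOp a y + c₅ • w₁ + c₆ • w₂ := by
  have hli := (LinearIndependent.pair_iff' hx).2 hsx
  obtain ⟨y, hy, hy1⟩ : ∃ y, B x y = 0 ∧ B (sOp a x) y = 1 := by
    obtain ⟨φ, hφ⟩ := LinearMap.exists_extend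
      (((Basis.span hli).constr F ![(0 : F), 1]) : Submodule.span F (Set.range ![x, sOp a x]) →ₗ[F] F)
    have hB : B.Nondegenerate := ⟨S.nondeg, fun v hv => S.nondeg v fun u => by rw [S.flip, hv, neg_zero]⟩
    refine ⟨-(B.toDual hB).symm φ, ?_, ?_⟩
    all_goals rw [map_neg, ← S.flip, LinearMap.BilinForm.apply_toDual_symm_apply]
    · have h := LinearMap.congr_fun hφ (Basis.span hli 0)
      rw [Basis.constr_basis, LinearMap.comp_apply, Submodule.subtype_apply, Basis.span_apply] at h
      exact h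
    · have h := LinearMap.congr_fun hφ (Basis.span hli 1)
      rw [Basis.constr_basis, LinearMap.comp_apply, Submodule.subtype_apply, Basis.span_apply] at h
      exact h
  set s := sOp a with hs
  have exx : B x x = 0 := S.alt.self_eq_zero x
  have esxsx : B (s x) (s x) = 0 := S.alt.self_eq_zero _
  have eyy : B y y = 0 := S.alt.self_eq_zero y
  have esysy : B (s y) (s y) = 0 := S.alt.self_eq_zero _
  have exsx : B x (s x) = 0 := by rw [← S.self_adj]; exact S.sOp_self x
  have eysy : B y (s y) = 0 := by rw [← S.self_adj]; exact S.sOp_self y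
  have exsy : B x (s y) = 1 := by rw [← S.self_adj]; exact hy1
  have esxsy : B (s x) (s y) = -m₁ := by
    rw [hs, ← S.self_adj, ← hs, show s (s x) = -(m₁ • s x + m₀ • x) by
      rw [eq_neg_iff_add_eq_zero, ← add_assoc]; exact hm x]
    simp [hy, hy1]
  have hflip := fun u v : V => S.flip u v
  let L : V →ₗ[F] (F × F) × (F × F) := ((B x).prod (B (s x))).prod ((B y).prod (B (s y)))
  let E : (F × F) × (F × F) → V := fun p =>
    p.1.1 • (m₁ • y + s y) + p.1.2 • y + p.2.1 • (-(m₁ • x) - s x) + p.2.2 • (-x)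
  have hE : ∀ p, L (E p) = p := fun p => by
    refine Prod.ext (Prod.ext ?_ ?_) (Prod.ext ?_ ?_) <;>
      simp [L, E, exx, esxsx, eyy, esysy, exsx, eysy, exsy, esxsy, hy, hy1, hflip x y, hflip (s x) y,
        hflip x (s y), hflip (s x) (s y), hflip x (s x), hflip y (s y)]
  have hker : finrank F (LinearMap.ker L) = 2 := by
    have h := LinearMap.finrank_range_add_finrank_ker L
    rw [LinearMap.range_eq_top.2 fun p => ⟨E p, hE p⟩, finrank_top, finrank_prod, finrank_prod, finrank_self,
      hdim] at h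
    omega
  have hmem : ∀ w, w ∈ LinearMap.ker L ↔ B x w = 0 ∧ B (s x) w = 0 ∧ B y w = 0 ∧ B (s y) w = 0 := fun w => by
    simp [L, LinearMap.mem_ker, and_assoc]
  have hproj : ∀ v, v - E (L v) ∈ LinearMap.ker L := fun v => by
    rw [LinearMap.mem_ker, map_sub, hE, sub_self]
  obtain ⟨w₁, hw₁, hw10⟩ := Submodule.exists_mem_ne_zero_of_ne_bot
    (show LinearMap.ker L ≠ ⊥ from fun h => by rw [h, finrank_bot] at hker; omega)
  obtain ⟨v, hv⟩ : ∃ v, B w₁ v ≠ 0 := by
    by_contra h; push Not at h; exact hw10 (S.nondeg w₁ h)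
  obtain ⟨g1, g2, g3, g4⟩ := (hmem w₁).1 hw₁
  have hBE : ∀ p, B w₁ (E p) = 0 := fun p => by
    simp [E, hflip x w₁, hflip (s x) w₁, hflip y w₁, hflip (s y) w₁, g1, g2, g3, g4]
  obtain ⟨w₂, hw₂def⟩ : ∃ w₂, w₂ = (B w₁ v)⁻¹ • (v - E (L v)) := ⟨_, rfl⟩
  have hw₂ : w₂ ∈ LinearMap.ker L := hw₂def ▸ Submodule.smul_mem _ _ (hproj v)
  have h12 : B w₁ w₂ = 1 := by
    rw [hw₂def, map_smul, map_sub, hBE, sub_zero, smul_eq_mul, inv_mul_cancel₀ hv]
  have hspan : Submodule.span F {w₁, w₂} = LinearMap.ker L := by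
    refine Submodule.eq_of_le_of_finrank_eq (Submodule.span_le.2 ?_) ?_
    · rintro z (rfl | rfl)
      · exact hw₁
      · exact hw₂
    · have hli' : LinearIndependent F ![w₁, w₂] := (LinearIndependent.pair_iff' hw10).2 fun c hc => by
        rw [← hc, map_smul, S.alt.self_eq_zero, smul_zero] at h12
        exact zero_ne_one h12
      have := finrank_span_eq_card (R := F) hli'
      rw [Matrix.range_cons_cons_empty, Fintype.card_fin] at this
      rw [this, hker]
  have hstab : ∀ w ∈ LinearMap.ker L, s w ∈ LinearMap.ker L := fun w hw => by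
    obtain ⟨k1, k2, k3, k4⟩ := (hmem w).1 hw
    refine (hmem _).2 ⟨?_, ?_, ?_, ?_⟩
    · rw [hs, ← S.self_adj]; exact k2
    · rw [hs, ← S.self_adj, ← hs, show s (s x) = -(m₁ • s x + m₀ • x) by
        rw [eq_neg_iff_add_eq_zero, ← add_assoc]; exact hm x]
      simp [k1, k2]
    · rw [hs, ← S.self_adj]; exact k4
    · rw [hs, ← S.self_adj, ← hs, show s (s y) = -(m₁ • s y + m₀ • y) by
        rw [eq_neg_iff_add_eq_zero, ← add_assoc]; exact hm y]
      simp [k3, k4]
  obtain ⟨α, β, hα⟩ := Submodule.mem_span_pair.1 (hspan.symm ▸ hstab w₁ hw₁)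
  obtain ⟨γ, δ, hγ⟩ := Submodule.mem_span_pair.1 (hspan.symm ▸ hstab w₂ hw₂)
  have hβ : β = 0 := by
    have h : B w₁ (s w₁) = 0 := by rw [← S.self_adj]; exact S.sOp_self w₁
    rw [← hα, map_add, map_smul, map_smul, h12, S.alt.self_eq_zero, smul_zero, zero_add, smul_eq_mul,
      mul_one] at h
    exact h
  have hγ0 : γ = 0 := by
    have h : B w₂ (s w₂) = 0 := by rw [← S.self_adj]; exact S.sOp_self w₂
    rw [← hγ, map_add, map_smul, map_smul, S.alt.self_eq_zero, hflip w₁ w₂, h12, smul_zero, add_zero,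
      smul_eq_mul, mul_neg, mul_one, neg_eq_zero] at h
    exact h
  have hαδ : α = δ := by
    have h := S.self_adj w₁ w₂
    rw [← hs, ← hα, ← hγ, hβ, hγ0, zero_smul, zero_smul, add_zero, zero_add, map_smul, map_smul,
      LinearMap.smul_apply, h12, smul_eq_mul, mul_one, smul_eq_mul, mul_one] at h
    exact h
  refine ⟨y, w₁, w₂, α, h12, ?_, ?_, hy, hy1, ?_, fun v => ?_⟩
  · rw [← hα, hβ, zero_smul, add_zero]
  · rw [← hγ, hγ0, zero_smul, zero_add, hαδ]
  · rintro w (rfl | rfl)
    · exact (hmem _).1 hw₁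
    · exact (hmem _).1 hw₂
  · obtain ⟨μ, ν, hμ⟩ := Submodule.mem_span_pair.1 (hspan.symm ▸ hproj v)
    refine ⟨-((L v).2.1 * m₁) - (L v).2.2, -(L v).2.1, (L v).1.1 * m₁ + (L v).1.2, (L v).1.1, μ, ν, ?_⟩
    rw [add_assoc _ (μ • w₁), hμ]
    simp only [E]
    module

/-- `s` quadratic unipotent: a plane or type `(3, 3)`. -/
theorem case_two [FiniteDimensional F V] (hdim : finrank F V = 6)
    (hN2 : ∀ v, sOp a (sOp a v) + (-4 : F) • sOp a v + (4 : F) • v = 0)
    (hN : ∃ v, sOp a v ≠ (2 : F) • v) : HasPlane B a ∨ Unip3 a := by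
  by_cases hex : ∃ v, sOp a v = (2 : F) • v ∧ B v (a v) ≠ 0
  · obtain ⟨v, hv, h⟩ := hex
    exact Or.inl (S.plane_of_eigen hv h)
  push Not at hex
  obtain ⟨x, hx⟩ := hN
  have hx0 : x ≠ 0 := fun h => hx (by simp [h])
  have hsx : ∀ c : F, c • x ≠ sOp a x := fun c hc => hx (by
    have h := hN2 x
    rw [← hc, map_smul, ← hc, smul_smul, smul_smul, ← add_smul, ← add_smul, smul_eq_zero] at h
    have h2 : (c - 2) * (c - 2) = 0 := by linear_combination h.resolve_right hx0
    rw [← hc, sub_eq_zero.1 (mul_self_eq_zero.1 h2)])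
  obtain ⟨y, w₁, w₂, e, h12, he1, he2, hxy, hxy1, hperp, hdec⟩ := S.exists_complement hdim hN2 hx0 hsx
  have he : e = 2 := by
    have h := hN2 w₁
    rw [he1, map_smul, he1, smul_smul, smul_smul, ← add_smul, ← add_smul, smul_eq_zero] at h
    have h2 : (e - 2) * (e - 2) = 0 := by
      refine (h.resolve_right fun h0 => ?_).symm.trans ?_ |>.symm
      · simp [h0] at h12
      · ring
    exact sub_eq_zero.1 (mul_self_eq_zero.1 h2)
  subst he
  let W : Submodule F V := LinearMap.ker (sOp a - (2 : F) • 1)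
  have hW : ∀ v, v ∈ W ↔ sOp a v = (2 : F) • v := fun v => by
    simp [W, LinearMap.mem_ker, sub_eq_zero]
  set n : Module.End F V := a.toLinearMap - 1 with hn
  have hna : ∀ v, a v = v + n v := fun v => by simp [hn]
  have hnn : ∀ v, n (n v) = a (sOp a v) - (2 : F) • a v := fun v => by
    simp [hn, sOp_apply, two_smul]; abel
  have hnN : ∀ v, n (n v) = sOp a (a v) - (2 : F) • a v := fun v => by rw [hnn, sOp_comm]
  have hn4 : ∀ v, n (n (n (n v))) = 0 := fun v => by
    rw [hnN (n (n v)), hnn v]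
    simp only [map_sub, map_smul, sOp_comm]
    have := congrArg (fun w => a (a w)) (hN2 v)
    simp only [map_add, map_smul, map_zero] at this
    rw [← this]
    module
  by_cases h3 : ∀ v, n (n (n v)) = 0
  · refine Or.inr ⟨fun v => ?_, x, fun h => hx ?_⟩
    · rw [← h3 v]; simp [hn]; abel
    · have : a (sOp a x - (2 : F) • x) = 0 := by
        rw [map_sub, map_smul, ← h, sOp_apply, map_add, a.apply_symm_apply, two_smul, two_smul]; abel
      exact sub_eq_zero.1 (a.map_eq_zero_iff.1 this)
  left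
  push Not at h3
  obtain ⟨v₀, hv₀⟩ := h3
  set z := n (n v₀) with hz
  set R : Submodule F V := Submodule.span F {sOp a x - (2 : F) • x, sOp a y - (2 : F) • y} with hR
  have hrange : ∀ v, sOp a v - (2 : F) • v ∈ R := fun v => by
    obtain ⟨c₁, c₂, c₃, c₄, c₅, c₆, rfl⟩ := hdec v
    have hss : ∀ u, sOp a (sOp a u) = (4 : F) • sOp a u - (4 : F) • u := fun u => by
      linear_combination (norm := module) hN2 u
    refine Submodule.mem_span_pair.2 ⟨c₁ + 2 * c₂, c₃ + 2 * c₄, ?_⟩
    simp only [map_add, map_smul, hss, he1, he2]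
    module
  have hRW : ∀ r ∈ R, r ∈ W ∧ ∀ w ∈ ({w₁, w₂} : Set V), B r w = 0 := fun r hr => by
    obtain ⟨c, c', rfl⟩ := Submodule.mem_span_pair.1 hr
    have hW' : ∀ u, sOp a u - (2 : F) • u ∈ W := fun u => (hW _).2 (by
      rw [map_sub, map_smul]; linear_combination (norm := module) hN2 u)
    refine ⟨add_mem (W.smul_mem _ (hW' x)) (W.smul_mem _ (hW' y)), fun w hw => ?_⟩
    obtain ⟨k1, k2, k3, k4⟩ := hperp w hw
    simp [k1, k2, k3, k4]
  have hzR : z ∈ R := by rw [hz, hnN]; exact hrange _
  have hnzR : n z ∈ R := by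
    rw [hz, hnN (n v₀)]; exact hrange _
  have hzz : n (n z) = 0 := hn4 v₀
  have hz0 : n z ≠ 0 := hv₀
  have hzne : z ≠ 0 := fun h => hz0 (by rw [h, map_zero])
  have hspanR : Submodule.span F {z, n z} = R := by
    refine Submodule.eq_of_le_of_finrank_le (Submodule.span_le.2 ?_) ?_
    · rintro u (rfl | rfl)
      · exact hzR
      · exact hnzR
    · have hli : LinearIndependent F ![z, n z] := (LinearIndependent.pair_iff' hzne).2 fun c hc => by
        have h1 := congrArg n hc
        rw [hzz, map_smul, smul_eq_zero] at h1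
        rcases h1 with h1 | h1
        · exact hz0 (by rw [← hc, h1, zero_smul])
        · exact hz0 h1
      have h1 := finrank_span_eq_card (R := F) hli
      rw [Matrix.range_cons_cons_empty, Fintype.card_fin] at h1
      rw [h1, hR]
      classical
      rw [← Finset.coe_pair]
      exact (finrank_span_finset_le_card _).trans Finset.card_le_two
  have hfix : ∀ w ∈ ({w₁, w₂} : Set V), ∃ t : F, n (w - t • z) = 0 := fun w hw => by
    have hwW : sOp a w = (2 : F) • w := by rcases hw with rfl | rfl <;> assumption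
    have hnw2 : n (n w) = 0 := by rw [hnn, hwW, map_smul, sub_self]
    have hnwW : n w ∈ W := (hW _).2 (by simp [hn, sOp_comm, hwW, smul_sub])
    have hsymm : a.symm w = w - n w := a.injective (by
      rw [a.apply_symm_apply, map_sub, hna, hna (n w), hnw2, add_zero, add_sub_cancel_right])
    have hperp' : ∀ u ∈ W, B u (n w) = 0 := fun u hu => by
      have h := S.polar_zero (W := W) (fun v hv => hex v ((hW v).1 hv)) hu ((hW w).2 hwW)
      rw [hna, hsymm, show w + n w - (w - n w) = (2 : F) • n w by module, map_smul, smul_eq_mul] at h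
      exact (mul_eq_zero.1 h).resolve_left S.two
    obtain ⟨c₁, c₂, c₃, c₄, c₅, c₆, hd⟩ := hdec (n w)
    have hc5 : c₅ = 0 := by
      have h := hperp' w₂ ((hW _).2 he2)
      obtain ⟨k1, k2, k3, k4⟩ := hperp w₂ (Or.inr rfl)
      rw [hd] at h
      simp [S.flip x w₂, S.flip (sOp a x) w₂, S.flip y w₂, S.flip (sOp a y) w₂, k1, k2, k3, k4,
        S.flip w₁ w₂, h12, S.alt.self_eq_zero] at h
      exact h
    have hc6 : c₆ = 0 := by
      have h := hperp' w₁ ((hW _).2 he1)
      obtain ⟨k1, k2, k3, k4⟩ := hperp w₁ (Or.inl rfl)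
      rw [hd] at h
      simp [S.flip x w₁, S.flip (sOp a x) w₁, S.flip y w₁, S.flip (sOp a y) w₁, k1, k2, k3, k4, h12,
        S.alt.self_eq_zero] at h
      exact h
    have hnwR : n w ∈ R := by
      rw [hc5, hc6, zero_smul, zero_smul, add_zero, add_zero] at hd
      have h := (hW _).1 hnwW
      rw [hd] at h
      simp only [map_add, map_smul] at h
      have hss : ∀ u, sOp a (sOp a u) = (4 : F) • sOp a u - (4 : F) • u := fun u => by
        linear_combination (norm := module) hN2 u
      rw [hss, hss] at h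
      have h' : (c₁ + 2 * c₂) • (sOp a x - (2 : F) • x) + (c₃ + 2 * c₄) • (sOp a y - (2 : F) • y) = 0 := by
        linear_combination (norm := module) h
      have hg : c₁ + 2 * c₂ = 0 := by
        have := congrArg (fun u => B u y) h'
        simp [hxy, hxy1, S.alt.self_eq_zero, S.sOp_self] at this
        linear_combination this
      have hg' : c₃ + 2 * c₄ = 0 := by
        have := congrArg (fun u => B x u) h'
        have e1 : B x (sOp a x) = 0 := by rw [← S.self_adj]; exact S.sOp_self x
        have e2 : B x (sOp a y) = 1 := by rw [← S.self_adj]; exact hxy1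
        simp [hxy, e1, e2, S.alt.self_eq_zero] at this
        linear_combination this
      rw [hR]
      refine Submodule.mem_span_pair.2 ⟨c₂, c₄, ?_⟩
      rw [hd, eq_neg_of_add_eq_zero_left hg, eq_neg_of_add_eq_zero_left hg']
      module
    rw [← hspanR] at hnwR
    obtain ⟨t, t', ht⟩ := Submodule.mem_span_pair.1 hnwR
    have ht0 : t = 0 := by
      have h := congrArg n ht
      rw [map_add, map_smul, map_smul, hzz, smul_zero, add_zero, hnw2] at h
      exact (smul_eq_zero.1 h).resolve_right hz0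
    exact ⟨t', by rw [map_sub, map_smul, ← ht, ht0, zero_smul, zero_add, sub_self]⟩
  obtain ⟨t₁, ht₁⟩ := hfix w₁ (Or.inl rfl)
  obtain ⟨t₂, ht₂⟩ := hfix w₂ (Or.inr rfl)
  refine ⟨w₁ - t₁ • z, w₂ - t₂ • z, ?_, ?_, ?_⟩
  · have k1 := (hRW z hzR).2 w₂ (Or.inr rfl)
    have k2 := (hRW z hzR).2 w₁ (Or.inl rfl)
    simp [h12, k1, S.flip z w₁, k2, S.alt.self_eq_zero]
  · rw [hna, ht₁, add_zero]; exact Submodule.subset_span (by simp)
  · rw [hna, ht₂, add_zero]; exact Submodule.subset_span (by simp)

omit S in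
theorem chain_indep {c : F} (hN3 : aeval (sOp a) ((X - C c) ^ 3) = 0) {x y : V}
    (hind : ∀ p r : F, p • aeval (sOp a) ((X - C c) ^ 2) x + r • aeval (sOp a) ((X - C c) ^ 2) y = 0 → p = 0 ∧ r = 0) :
    ∀ j ≤ 3, ∀ P R : F[X], P.degree < (j : ℕ) → R.degree < (j : ℕ) →
      aeval (sOp a) ((X - C c) ^ (3 - j)) (aeval (sOp a) P x + aeval (sOp a) R y) = 0 → P = 0 ∧ R = 0 := by
  intro j
  induction j with
  | zero =>
    intro _ P R hP hR _
    rw [Nat.cast_zero] at hP hR
    exact ⟨degree_eq_bot.1 (Nat.WithBot.lt_zero_iff.1 hP), degree_eq_bot.1 (Nat.WithBot.lt_zero_iff.1 hR)⟩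
  | succ j ih =>
    intro hj P R hP hR h
    have key : ∀ (Q : F[X]) (u : V), aeval (sOp a) ((X - C c) ^ 2) (aeval (sOp a) Q u) =
        Q.eval c • aeval (sOp a) ((X - C c) ^ 2) u := fun Q u => by
      obtain ⟨T, hT⟩ := X_sub_C_dvd_sub_C_eval (a := c) (p := Q)
      have e : (X - C c) ^ 2 * Q = C (Q.eval c) * (X - C c) ^ 2 + T * (X - C c) ^ 3 := by
        linear_combination (X - C c) ^ 2 * hT
      rw [← aeval_mul_apply, e, map_add, map_mul (aeval (sOp a)) T, hN3, mul_zero, add_zero, aeval_mul_apply,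
        aeval_C, Module.algebraMap_end_apply]
    have h2 := congrArg (aeval (sOp a) ((X - C c) ^ j)) h
    rw [← aeval_mul_apply, ← pow_add, show j + (3 - (j + 1)) = 2 by omega, map_add, map_zero, key, key] at h2
    obtain ⟨hP0, hR0⟩ := hind _ _ h2
    obtain ⟨P', rfl⟩ := dvd_iff_isRoot.2 hP0
    obtain ⟨R', rfl⟩ := dvd_iff_isRoot.2 hR0
    have hdeg : ∀ Q : F[X], ((X - C c) * Q).degree < ((j + 1 : ℕ) : WithBot ℕ) → Q.degree < (j : ℕ) := fun Q hQ => by
      rcases eq_or_ne Q 0 with rfl | hQ0
      · rw [degree_zero]; exact WithBot.bot_lt_coe j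
      rw [degree_eq_natDegree hQ0, Nat.cast_lt]
      rw [degree_mul, degree_X_sub_C, degree_eq_natDegree hQ0, ← Nat.cast_one, ← Nat.cast_add, Nat.cast_lt] at hQ
      omega
    obtain ⟨e1, e2⟩ := ih (by omega) P' R' (hdeg _ hP) (hdeg _ hR) (by
      rw [aeval_mul_apply, aeval_mul_apply, ← map_add, ← aeval_mul_apply, ← pow_succ,
        show 3 - (j + 1) + 1 = 3 - j by omega] at h
      exact h)
    rw [e1, e2, mul_zero]
    exact ⟨rfl, rfl⟩

/-- `s` cubic with one eigenvalue: `a` is cyclic. -/
theorem case_three [FiniteDimensional F V] (hdim : finrank F V = 6) {c : F}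
    (hN3 : aeval (sOp a) ((X - C c) ^ 3) = 0) (hN2 : aeval (sOp a) ((X - C c) ^ 2) ≠ 0) :
    Cyc a ((X - C c) ^ 3) := by
  set M := aeval (sOp a) ((X - C c) ^ 2) with hM
  set N := aeval (sOp a) (X - C c) with hN
  have hdeg : ((X - C c) ^ 3 : F[X]).degree = (3 : ℕ) := by simp
  have hMN : ∀ v, M v = N (N v) := fun v => by rw [hM, pow_two, aeval_mul_apply]
  have hMN0 : ∀ v, M (N v) = 0 := fun v => by
    rw [hM, hN, ← aeval_mul_apply, ← pow_succ, hN3, LinearMap.zero_apply]
  by_cases hx : ∃ x, ∀ p r : F, p • M x + r • M (a x) = 0 → p = 0 ∧ r = 0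
  · obtain ⟨x, hx⟩ := hx
    refine ⟨hN3, x, fun P R hP hR h => ?_⟩
    rw [hdeg] at hP hR
    exact chain_indep hN3 hx 3 le_rfl P R hP hR (by simp [h])
  exfalso
  push Not at hx
  obtain ⟨lam, hlam⟩ : ∃ e : F, ∀ v, a (M v) = e • M v := by
    let T : Module.End F (LinearMap.range M) := (a.toLinearMap).restrict (p := LinearMap.range M)
      (q := LinearMap.range M) (by rintro _ ⟨v, rfl⟩; exact ⟨a v, aeval_comm a _ v⟩)
    obtain ⟨e, he⟩ := T.exists_eq_smul_id_of_forall_notLinearIndependent (by
      rintro ⟨_, v, rfl⟩ hli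
      obtain ⟨p, r, hpr, hne⟩ := hx v
      have := (LinearIndependent.pair_iff.1 hli) p r (Subtype.ext (by
        show p • M v + r • a (M v) = 0
        rw [← aeval_comm]; exact hpr))
      exact hne this.1 this.2)
    exact ⟨e, fun v => congrArg Subtype.val (LinearMap.congr_fun he ⟨M v, v, rfl⟩)⟩
  obtain ⟨x, y, hxy⟩ : ∃ x y, B (M x) y = 1 := by
    obtain ⟨x, hx0⟩ := DFunLike.ne_iff.1 hN2
    obtain ⟨y, hy⟩ : ∃ y, B (M x) y ≠ 0 := by
      by_contra h; push Not at h; exact hx0 (S.nondeg _ h)
    exact ⟨x, (B (M x) y)⁻¹ • y, by rw [map_smul, smul_eq_mul, inv_mul_cancel₀ hy]⟩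
  have hMadj : ∀ u v, B (M u) v = B u (M v) := fun u v => S.aeval_adj _ u v
  have hMcomm : ∀ v, M (a v) = a (M v) := fun v => aeval_comm a _ v
  have hMself : ∀ u, B (M u) u = 0 := fun u => S.self_zero _ u
  have hl2 : lam * lam = 1 := by
    have h := S.iso (M x) y
    rw [hlam, map_smul, LinearMap.smul_apply, smul_eq_mul, hMadj, hMcomm, hlam, map_smul, smul_eq_mul, ← hMadj,
      hxy, mul_one] at h
    exact h
  have hl0 : lam ≠ 0 := fun h => by simp [h] at hl2
  have hsym : ∀ v, a.symm (M v) = lam • M v := fun v => a.injective (by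
    rw [a.apply_symm_apply, map_smul, hlam, smul_smul, hl2, one_smul])
  have hMne : M x ≠ 0 := fun h => by simp [h] at hxy
  have hc : c = 2 * lam := by
    have h1 : N (M x) = 0 := by rw [hN, hM, ← aeval_mul_apply, ← pow_succ', hN3, LinearMap.zero_apply]
    rw [hN, aeval_linear, sOp_apply, hlam, hsym, ← add_smul, ← sub_smul, smul_eq_zero, sub_eq_zero] at h1
    linear_combination -(h1.resolve_right hMne)
  set n : Module.End F V := a.toLinearMap - lam • 1 with hn
  have hnn : ∀ v, n (n v) = a (N v) := fun v => by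
    rw [hN, aeval_linear, sOp_apply, hc, map_sub, map_add, a.apply_symm_apply, map_smul]
    simp [hn, smul_sub, smul_smul, hl2]
    module
  have hnM : ∀ v, n (M v) = 0 := fun v => by simp [hn, hlam]
  have hnc : ∀ (Q : F[X]) v, n (aeval (sOp a) Q v) = aeval (sOp a) Q (n v) := fun Q v => by
    simp [hn, aeval_comm]
  have hind : ∀ p r : F, p • M x + r • M y = 0 → p = 0 ∧ r = 0 := fun p r h => by
    have h1 := congrArg (fun u => B u y) h
    simp only [map_add, map_smul, LinearMap.add_apply, LinearMap.smul_apply, hxy, hMself, map_zero,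
      LinearMap.zero_apply, smul_eq_mul, mul_one, mul_zero, add_zero] at h1
    refine ⟨h1, ?_⟩
    have h2 := congrArg (fun u => B x u) h
    simp only [map_add, map_smul, ← hMadj, hxy, hMself, map_zero, smul_eq_mul, mul_one, mul_zero, zero_add] at h2
    exact h2
  have hbasis : ∀ v, ∃ P R : F[X], v = aeval (sOp a) P x + aeval (sOp a) R y := fun v => by
    let L : Polynomial.degreeLT F 3 × Polynomial.degreeLT F 3 →ₗ[F] V :=
      { toFun := fun g => aeval (sOp a) g.1.1 x + aeval (sOp a) g.2.1 y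
        map_add' := fun g g' => by simp; abel
        map_smul' := fun d g => by simp [smul_add] }
    have hinj : Function.Injective L := by
      rw [injective_iff_map_eq_zero]
      intro g hg
      obtain ⟨e1, e2⟩ := chain_indep hN3 hind 3 le_rfl g.1.1 g.2.1 (Polynomial.mem_degreeLT.1 g.1.2)
        (Polynomial.mem_degreeLT.1 g.2.2) (by rw [show (3 : ℕ) - 3 = 0 from rfl, pow_zero, map_one]; exact hg)
      exact Prod.ext (Subtype.ext e1) (Subtype.ext e2)
    have hfr : finrank F (Polynomial.degreeLT F 3) = 3 := by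
      rw [(Polynomial.degreeLTEquiv F 3).finrank_eq, finrank_fin_fun]
    have : FiniteDimensional F (Polynomial.degreeLT F 3) :=
      Module.Finite.equiv (Polynomial.degreeLTEquiv F 3).symm
    obtain ⟨g, hg⟩ := (LinearMap.injective_iff_surjective_of_finrank_eq_finrank
      (by rw [finrank_prod, hfr, hdim])).1 hinj v
    exact ⟨g.1.1, g.2.1, hg.symm⟩
  have hkerM : ∀ v, M v = 0 → ∃ u, v = N u := fun v hv => by
    obtain ⟨P, R, rfl⟩ := hbasis v
    obtain ⟨P', hP'⟩ := X_sub_C_dvd_sub_C_eval (a := c) (p := P)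
    obtain ⟨R', hR'⟩ := X_sub_C_dvd_sub_C_eval (a := c) (p := R)
    have key : ∀ (Q Q' : F[X]) (u : V), Q - C (Q.eval c) = (X - C c) * Q' →
        aeval (sOp a) Q u = Q.eval c • u + N (aeval (sOp a) Q' u) := fun Q Q' u h => by
      conv_lhs => rw [show Q = C (Q.eval c) + (X - C c) * Q' by rw [← h]; ring]
      rw [map_add, LinearMap.add_apply, aeval_C, Module.algebraMap_end_apply, aeval_mul_apply, hN]
    rw [key P P' x hP', key R R' y hR'] at hv ⊢
    rw [map_add, map_add, map_add, map_smul, map_smul, hMN0, hMN0, add_zero, add_zero] at hv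
    obtain ⟨h1, h2⟩ := hind _ _ hv
    exact ⟨aeval (sOp a) P' x + aeval (sOp a) R' y, by rw [h1, h2, zero_smul, zero_smul, zero_add, zero_add, map_add]⟩
  have hfinal : ∀ v, M v = 0 := fun v => by
    obtain ⟨u, hu⟩ := hkerM (n v) (by rw [hM, ← hnc, ← hM, hnM])
    obtain ⟨u', hu'⟩ := hkerM (n u) (by rw [hM, ← hnc, ← hM, hnM])
    have h1 : a (N v) = M u' := by rw [← hnn, hu, hN, hnc, ← hN, hu', hMN]
    have h2 : N (M u') = 0 := by rw [hN, hM, ← aeval_mul_apply, ← pow_succ', hN3, LinearMap.zero_apply]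
    rw [← h1] at h2
    rw [hN, aeval_comm, a.map_eq_zero_iff] at h2
    rw [hMN]; exact h2
  exact hN2 (LinearMap.ext hfinal)

end Setup

/-- The classification. -/
theorem classify [FiniteDimensional F V] (S : Setup B a) (hdim : finrank F V = 6) :
    HasPlane B a ∨ (∃ π : F[X], π.Monic ∧ Irreducible π ∧ π.natDegree = 3 ∧ Cyc a π) ∨
      (∃ c : F, Cyc a ((X - C c) ^ 3)) ∨ Unip3 a ∨ Unip3 (a.trans (LinearEquiv.neg F)) := by
  classical
  have hint : IsIntegral F (sOp a) := IsIntegral.of_finite F _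
  set m := minpoly F (sOp a) with hm
  have hm0 : aeval (sOp a) m = 0 := minpoly.aeval _ _
  have hmm : m.Monic := minpoly.monic hint
  have hmne : m ≠ 1 := fun h => by
    rw [h, map_one] at hm0
    have h2 : ∀ v : V, v = 0 := fun v => by simpa using LinearMap.congr_fun hm0 v
    have : Subsingleton V := ⟨fun u v => by rw [h2 u, h2 v]⟩
    rw [finrank_zero_of_subsingleton] at hdim
    omega
  obtain ⟨π, hπm, hπ, hdvd⟩ := exists_monic_irreducible_factor m fun hu => hmne (hmm.eq_one_of_isUnit hu)
  obtain ⟨k, r, hr, hmr⟩ := WfDvdMonoid.max_power_factor hmm.ne_zero hπ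
  have hk : k ≠ 0 := fun h => hr (by rw [h, pow_zero, one_mul] at hmr; exact hmr ▸ hdvd)
  have hrm : r.Monic := (hπm.pow k).of_mul_monic_left (hmr ▸ hmm)
  have hsmall : ∀ g : F[X], g.Monic → g.natDegree < m.natDegree → aeval (sOp a) g ≠ 0 := fun g hg hlt h => by
    have := natDegree_le_natDegree (minpoly.min F (sOp a) hg h)
    rw [← hm] at this
    omega
  by_cases hr1 : r = 1
  swap
  · have hrd : 0 < r.natDegree := Nat.pos_of_ne_zero fun h => hr1 (hrm.natDegree_eq_zero.1 h)
    have hdeg := (hπm.pow k).natDegree_mul hrm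
    rw [← hmr] at hdeg
    have hkd : 0 < (π ^ k).natDegree := by
      rw [natDegree_pow]; exact Nat.mul_pos (Nat.pos_of_ne_zero hk) hπ.natDegree_pos
    exact Or.inl (S.plane_of_coprime hdim (((hπ.coprime_iff_not_dvd).2 hr).pow_left) (hmr ▸ hm0)
      (hsmall _ (hπm.pow k) (by omega)) (hsmall _ hrm (by omega)))
  rw [hr1, mul_one] at hmr
  obtain ⟨j, rfl⟩ : ∃ j, k = j + 1 := ⟨k - 1, by omega⟩
  have hk0 : aeval (sOp a) (π ^ (j + 1)) = 0 := hmr ▸ hm0
  have hj : aeval (sOp a) (π ^ j) ≠ 0 := hsmall _ (hπm.pow j) (by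
    rw [hmr, natDegree_pow, natDegree_pow]; have := hπ.natDegree_pos; nlinarith)
  obtain ⟨x₀, hx₀⟩ := DFunLike.ne_iff.1 hj
  have hann := fun g hg h => Setup.annihilator_pow (g := g) hπ hk0 hx₀ hg h
  have hle := S.degree_le_three hdim (m := π ^ (j + 1)) (x := x₀) hann
  rw [natDegree_pow] at hle
  have hπd := hπ.natDegree_pos
  have hjle : j ≤ 2 := by nlinarith
  by_cases hd1 : π.natDegree = 1
  · obtain ⟨c, rfl⟩ : ∃ c, π = X - C c := ⟨-π.coeff 0, by
      conv_lhs => rw [hπm.eq_X_add_C hd1]
      simp⟩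
    interval_cases j
    · rw [zero_add, pow_one] at hk0
      have hs : ∀ v, sOp a v = c • v := fun v => by
        have := LinearMap.congr_fun hk0 v
        rwa [aeval_linear, LinearMap.zero_apply, sub_eq_zero] at this
      by_cases hv : ∃ v, B v (a v) ≠ 0
      · obtain ⟨v, hv⟩ := hv
        exact Or.inl (S.plane_of_eigen (hs v) hv)
      push Not at hv
      left
      have haa : ∀ v, a v = a.symm v := fun v => sub_eq_zero.1 (S.nondeg _ fun u => by
        rw [S.flip, S.polar_zero (W := ⊤) (fun w _ => hv w) trivial trivial, neg_zero])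
      have hav : ∀ v, a v = (2 : F)⁻¹ • (c • v) := fun v => by
        rw [← hs v, sOp_apply, ← haa, ← two_smul F, smul_smul, inv_mul_cancel₀ S.two, one_smul]
      obtain ⟨u, hu⟩ : ∃ u : V, u ≠ 0 := by
        by_contra h; push Not at h
        have : Subsingleton V := ⟨fun u v => by rw [h u, h v]⟩
        rw [finrank_zero_of_subsingleton] at hdim
        omega
      obtain ⟨w, hw⟩ : ∃ w, B u w ≠ 0 := by
        by_contra h; push Not at h; exact hu (S.nondeg u h)
      refine ⟨u, (B u w)⁻¹ • w, by rw [map_smul, smul_eq_mul, inv_mul_cancel₀ hw], ?_, ?_⟩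
      · rw [hav]; exact Submodule.smul_mem _ _ (Submodule.smul_mem _ _ (Submodule.subset_span (by simp)))
      · rw [hav]; exact Submodule.smul_mem _ _ (Submodule.smul_mem _ _ (Submodule.subset_span (by simp)))
    · have hN2 : ∀ v, sOp a (sOp a v) + (-(2 * c)) • sOp a v + (c * c) • v = 0 := fun v => by
        have h := LinearMap.congr_fun hk0 v
        rw [show (1 + 1 : ℕ) = 2 from rfl, pow_two, aeval_mul_apply, aeval_linear, aeval_linear, LinearMap.zero_apply,
          map_sub, map_smul] at h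
        linear_combination (norm := module) h
      obtain ⟨x, hx⟩ : ∃ v, sOp a v ≠ c • v := ⟨x₀, by
        rw [pow_one, aeval_linear, LinearMap.zero_apply, sub_ne_zero] at hx₀; exact hx₀⟩
      by_cases hc2 : c = 2
      · subst hc2
        rcases S.case_two hdim (fun v => by convert hN2 v using 3 <;> norm_num) ⟨x, hx⟩ with h | h
        · exact Or.inl h
        · exact Or.inr (Or.inr (Or.inr (Or.inl h)))
      by_cases hc2' : c = -2
      · subst hc2'
        set a' := a.trans (LinearEquiv.neg F) with ha'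
        have hsn : ∀ v, sOp a' v = -sOp a v := fun v => by
          have h : a'.symm v = -a.symm v := by simp [ha']
          rw [sOp_apply, sOp_apply, h, ha']
          simp [add_comm]
        have S' : Setup B a' := ⟨S.two, S.alt, S.nondeg, fun u v => by simp [ha', S.iso]⟩
        rcases S'.case_two hdim (fun v => by
          rw [hsn v, hsn]
          simp only [map_neg]
          linear_combination (norm := module) hN2 v) ⟨x, fun h => hx (by
            rw [hsn] at h
            rw [← neg_neg (sOp a x), h, neg_smul])⟩ with ⟨u, w, h1, h2, h3⟩ | h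
        · refine Or.inl ⟨u, w, h1, ?_, ?_⟩
          · simpa [ha'] using Submodule.neg_mem _ h2
          · simpa [ha'] using Submodule.neg_mem _ h3
        · exact Or.inr (Or.inr (Or.inr (Or.inr h)))
      left
      by_cases hex : ∃ v, sOp a v = c • v ∧ B v (a v) ≠ 0
      · obtain ⟨v, hv, h⟩ := hex
        exact S.plane_of_eigen hv h
      push Not at hex
      exfalso
      have hx0 : x ≠ 0 := fun h => hx (by simp [h])
      obtain ⟨y, w₁, w₂, e, h12, he1, he2, -, -, -, -⟩ := S.exists_complement hdim hN2 hx0 fun d hd => hx (by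
        have h := hN2 x
        rw [← hd, map_smul, ← hd, smul_smul, smul_smul, ← add_smul, ← add_smul, smul_eq_zero] at h
        have h2 : (d - c) * (d - c) = 0 := by linear_combination h.resolve_right hx0
        rw [← hd, sub_eq_zero.1 (mul_self_eq_zero.1 h2)])
      have hec : e = c := by
        have h := hN2 w₁
        rw [he1, map_smul, he1, smul_smul, smul_smul, ← add_smul, ← add_smul, smul_eq_zero] at h
        have h2 : (e - c) * (e - c) = 0 := by
          linear_combination h.resolve_right fun h0 => by simp [h0] at h12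
        exact sub_eq_zero.1 (mul_self_eq_zero.1 h2)
      subst hec
      have hD : a (a w₂ - a.symm w₂) - a.symm (a w₂ - a.symm w₂) = (e * e - 4) • w₂ := by
        have h1 : sOp a (sOp a w₂) = (e * e) • w₂ := by rw [he2, map_smul, he2, smul_smul]
        simp only [sOp_apply, map_add, a.apply_symm_apply, a.symm_apply_apply] at h1
        simp only [map_sub, a.apply_symm_apply, a.symm_apply_apply]
        linear_combination (norm := module) h1
      have he4 : e * e - 4 ≠ 0 := fun h => by
        have : (e - 2) * (e + 2) = 0 := by linear_combination h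
        rcases mul_eq_zero.1 this with h | h
        · exact hc2 (sub_eq_zero.1 h)
        · exact hc2' (eq_neg_of_add_eq_zero_left h)
      let W : Submodule F V := LinearMap.ker (sOp a - e • 1)
      have hW : ∀ v, v ∈ W ↔ sOp a v = e • v := fun v => by simp [W, LinearMap.mem_ker, sub_eq_zero]
      have hmem : a w₂ - a.symm w₂ ∈ W := (hW _).2 (by
        have h' : sOp a (a.symm w₂) = a.symm (sOp a w₂) := by simp [sOp_apply, map_add]
        rw [map_sub, sOp_comm, h', he2, map_smul, map_smul, smul_sub])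
      have h := S.polar_zero (W := W) (fun v hv => hex v ((hW v).1 hv)) ((hW w₁).2 he1) hmem
      rw [hD, map_smul, h12, smul_eq_mul, mul_one] at h
      exact he4 h
    · exact Or.inr (Or.inr (Or.inl ⟨c, S.case_three hdim hk0 hj⟩))
  · have hj0 : j = 0 := by
      have hd2' : 2 ≤ π.natDegree := by omega
      rcases Nat.eq_zero_or_pos j with h | h
      · exact h
      · nlinarith
    subst hj0
    rw [zero_add, pow_one] at hk0
    by_cases hd3 : π.natDegree = 3
    · refine Or.inr (Or.inl ⟨π, hπm, hπ, hd3, hk0, ?_⟩)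
      obtain ⟨v, hv⟩ : ∃ v, B v (a v) ≠ 0 := by
        by_contra h
        push Not at h
        have haa : ∀ v, a v = a.symm v := fun v => sub_eq_zero.1 (S.nondeg _ fun u => by
          rw [S.flip, S.polar_zero (W := ⊤) (fun w _ => h w) trivial trivial, neg_zero])
        refine hsmall (X ^ 2 - C 4) (monic_X_pow_sub_C _ two_ne_zero) (by
          rw [hmr, natDegree_X_pow_sub_C, zero_add, pow_one, hd3]; norm_num) (LinearMap.ext fun v => ?_)
        simp [pow_two, sOp_apply, ← haa]
        rw [haa (a v), a.symm_apply_apply]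
        module
      refine ⟨v, fun P R hP hR h => ?_⟩
      have hR0 : R = 0 := by
        by_contra hR0
        obtain ⟨b, b', hb⟩ : IsCoprime R π := ((hπ.coprime_iff_not_dvd).2 fun hd =>
          absurd hR (not_lt.2 (degree_le_of_dvd hd hR0))).symm
        refine hv ?_
        have h' := congrArg (aeval (sOp a) b) h
        rw [map_add, map_zero, ← aeval_mul_apply _ b R, show b * R = 1 - b' * π by linear_combination hb,
          map_sub, map_one, map_mul, hk0, mul_zero, sub_zero, Module.End.one_apply, add_eq_zero_iff_eq_neg'] at h'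
        rw [h', map_neg, ← S.aeval_adj, ← S.aeval_adj, ← aeval_mul_apply, S.self_zero, neg_zero]
      refine ⟨?_, hR0⟩
      rw [hR0, map_zero, LinearMap.zero_apply, add_zero] at h
      have hv0 : v ≠ 0 := fun h0 => hv (by simp [h0])
      exact Setup.annihilator_pow (k := 0) hπ (by simpa using hk0) (x := v) (by simpa using hv0) (by simpa using hP) h
    · exfalso
      have hd2 : π.natDegree = 2 := by omega
      have hp : ∀ v, sOp a (sOp a v) + π.coeff 1 • sOp a v + π.coeff 0 • v = 0 := fun v => by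
        have h := LinearMap.congr_fun hk0 v
        have hc2 : π.coeff 2 = 1 := by rw [← hd2]; exact hπm.coeff_natDegree
        rw [aeval_eq_sum_range, hd2, Finset.sum_range_succ, Finset.sum_range_succ, Finset.sum_range_succ,
          Finset.sum_range_zero, zero_add, hc2] at h
        simp [pow_two] at h
        linear_combination (norm := module) h
      have hx0 : x₀ ≠ 0 := by simpa using hx₀
      obtain ⟨y, w₁, w₂, e, h12, he1, -⟩ := S.exists_complement hdim hp hx0 fun d hd => by
        refine absurd (hann (X - C d) ?_ ?_) (X_sub_C_ne_zero d)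
        · rw [degree_X_sub_C, zero_add, pow_one, degree_eq_natDegree hπ.ne_zero, hd2]; norm_num
        · rw [aeval_linear, hd, sub_self]
      have h := hp w₁
      rw [he1, map_smul, he1, smul_smul, smul_smul, ← add_smul, ← add_smul, smul_eq_zero] at h
      have hroot : π.eval e = 0 := by
        rw [eval_eq_sum_range, hd2, Finset.sum_range_succ, Finset.sum_range_succ, Finset.sum_range_succ,
          Finset.sum_range_zero, zero_add, show π.coeff 2 = 1 by rw [← hd2]; exact hπm.coeff_natDegree]
        linear_combination h.resolve_right fun h0 => by simp [h0] at h12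
      have := natDegree_eq_of_degree_eq_some (degree_eq_one_of_irreducible_of_root hπ hroot)
      rw [hd2] at this
      exact absurd this (by norm_num)

end CfsgLib.NormalCover.SpSix
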