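import Cfsg.Agent.Lib.NormalCover.SpSix.Analysis

/-!
Conjugacy of six-dimensional isometries that are cyclic over `a + a⁻¹` (up to a similitude of multiplier a
non-square), and of those unipotent of type `(3, 3)`.
-/

set_option autoImplicit false
set_option linter.unusedSectionVars false

namespace CfsgLib.NormalCover.SpSix

open Polynomial Module
open LinearMap (BilinForm)

variable {F V : Type*} [Field F] [AddCommGroup V] [Module F V]

/-- `(P, R) ↦ P(s)x + R(s)(a x)`. -/
noncomputable def gen (a : V ≃ₗ[F] V) (x : V) : F[X] × F[X] →ₗ[F] V where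
  toFun p := aeval (sOp a) p.1 x + aeval (sOp a) p.2 (a x)
  map_add' p p' := by simp; abel
  map_smul' c p := by simp [smul_add]

theorem gen_apply (a : V ≃ₗ[F] V) (x : V) (P R : F[X]) :
    gen a x (P, R) = aeval (sOp a) P x + aeval (sOp a) R (a x) := rfl

theorem gen_step (a : V ≃ₗ[F] V) (x : V) (P R : F[X]) : a (gen a x (P, R)) = gen a x (-R, P + X * R) := by
  have h : a (a x) = sOp a (a x) - x := by
    rw [sOp_apply, a.symm_apply_apply, add_sub_cancel_right]
  have h' : aeval (sOp a) (X * R) (a x) = aeval (sOp a) R (sOp a (a x)) := by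
    rw [mul_comm, aeval_mul_apply, aeval_X]
  rw [gen_apply, gen_apply, map_add, ← aeval_comm, ← aeval_comm, h, map_sub, map_neg, map_add,
    LinearMap.add_apply, h', LinearMap.neg_apply]
  abel

theorem gen_mod (a : V ≃ₗ[F] V) (x : V) {m : F[X]} (h0 : aeval (sOp a) m = 0) (P R : F[X]) :
    gen a x (P, R) = gen a x (P %ₘ m, R %ₘ m) := by
  rw [gen_apply, gen_apply, aeval_modByMonic_eq_self_of_root h0, aeval_modByMonic_eq_self_of_root h0]

theorem Cyc.gen_bijective [FiniteDimensional F V] (hdim : finrank F V = 6) {a : V ≃ₗ[F] V} {m : F[X]} {x : V}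
    (hd : m.degree = (3 : ℕ))
    (hx : ∀ P R : F[X], P.degree < m.degree → R.degree < m.degree →
      aeval (sOp a) P x + aeval (sOp a) R (a x) = 0 → P = 0 ∧ R = 0) :
    Function.Bijective ((gen a x).comp ((Polynomial.degreeLT F 3).subtype.prodMap (Polynomial.degreeLT F 3).subtype)) := by
  set L := (gen a x).comp ((Polynomial.degreeLT F 3).subtype.prodMap (Polynomial.degreeLT F 3).subtype)
  have hinj : Function.Injective L := by
    rw [injective_iff_map_eq_zero]
    intro g hg
    obtain ⟨e1, e2⟩ := hx g.1.1 g.2.1 (hd ▸ Polynomial.mem_degreeLT.1 g.1.2)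
      (hd ▸ Polynomial.mem_degreeLT.1 g.2.2) hg
    exact Prod.ext (Subtype.ext e1) (Subtype.ext e2)
  have hfr : finrank F (Polynomial.degreeLT F 3) = 3 := by
    rw [(Polynomial.degreeLTEquiv F 3).finrank_eq, finrank_fin_fun]
  have : FiniteDimensional F (Polynomial.degreeLT F 3) :=
    Module.Finite.equiv (Polynomial.degreeLTEquiv F 3).symm
  exact ⟨hinj, (LinearMap.injective_iff_surjective_of_finrank_eq_finrank
    (by rw [finrank_prod, hfr, hdim])).1 hinj⟩

theorem not_isSquare_algebraMap {K : Type*} [Field K] [Algebra F K] {ν : F} (hν : ¬ IsSquare ν)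
    (hodd : Odd (finrank F K)) : ¬ IsSquare (algebraMap F K ν) := by
  rintro ⟨z, hz⟩
  obtain ⟨j, hj⟩ := hodd
  have hν0 : ν ≠ 0 := fun h => hν (h ▸ IsSquare.zero)
  have h := congrArg (Algebra.norm F) hz
  rw [map_mul, Algebra.norm_algebraMap, hj, pow_succ, pow_mul'] at h
  refine hν ⟨Algebra.norm F z / ν ^ j, ?_⟩
  rw [div_mul_div_comm, ← h]
  field_simp

variable {B : BilinForm F V} {a : V ≃ₗ[F] V}

namespace Setup

variable (S : Setup B a)
include S

theorem form_gen (x : V) (P R P' R' : F[X]) :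
    B (gen a x (P, R)) (gen a x (P', R')) =
      B (aeval (sOp a) (P * R') x) (a x) - B (aeval (sOp a) (P' * R) x) (a x) := by
  have h1 : B (aeval (sOp a) P x) (aeval (sOp a) R' (a x)) = B (aeval (sOp a) (P * R') x) (a x) := by
    rw [← S.aeval_adj, ← aeval_mul_apply, mul_comm]
  have h2 : B (aeval (sOp a) R (a x)) (aeval (sOp a) P' x) = -B (aeval (sOp a) (P' * R) x) (a x) := by
    rw [S.flip, ← S.aeval_adj, ← aeval_mul_apply, mul_comm]
  rw [gen_apply, gen_apply, map_add, map_add, LinearMap.add_apply, LinearMap.add_apply, S.ti, S.ti,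
    h1, h2]
  ring

theorem phi_mod (x : V) {m : F[X]} (h0 : aeval (sOp a) m = 0) (P : F[X]) :
    B (aeval (sOp a) (P %ₘ m) x) (a x) = B (aeval (sOp a) P x) (a x) := by
  rw [aeval_modByMonic_eq_self_of_root h0]

/-- `P ↦ B (P(s)x) (a x)` is non-degenerate on `F[X]/(m)`. -/
theorem phi_nondeg [FiniteDimensional F V] (hdim : finrank F V = 6) {m : F[X]} {x : V} (hd : m.degree = (3 : ℕ))
    (hx : ∀ P R : F[X], P.degree < m.degree → R.degree < m.degree →
      aeval (sOp a) P x + aeval (sOp a) R (a x) = 0 → P = 0 ∧ R = 0)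
    {R : F[X]} (hR : R.degree < m.degree)
    (h : ∀ P : F[X], P.degree < m.degree → B (aeval (sOp a) (P * R) x) (a x) = 0) : R = 0 := by
  have hw : gen a x (R, 0) = 0 := S.nondeg _ fun v => by
    obtain ⟨⟨P', R'⟩, rfl⟩ := (Cyc.gen_bijective hdim hd hx).2 v
    show B (gen a x (R, 0)) (gen a x (P'.1, R'.1)) = 0
    rw [S.form_gen, mul_zero, map_zero, LinearMap.zero_apply, map_zero, LinearMap.zero_apply, sub_zero, mul_comm]
    exact h _ (hd ▸ Polynomial.mem_degreeLT.1 R'.2)
  exact (hx R 0 hR (by rw [degree_zero, hd]; exact WithBot.bot_lt_coe 3) hw).1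

end Setup

variable {V' : Type*} [AddCommGroup V'] [Module F V'] {B' : BilinForm F V'} {a' : V' ≃ₗ[F] V'}

/-- Cyclic isometries with the same polynomial are conjugate by a similitude. -/
theorem cyc_conj [Fintype F] [CharP F 3] [FiniteDimensional F V] [FiniteDimensional F V'] (S : Setup B a)
    (S' : Setup B' a') (hdim : finrank F V = 6) (hdim' : finrank F V' = 6) {π : F[X]} (hπ : Irreducible π)
    (hπm : π.Monic) (hodd : Odd π.natDegree) {k : ℕ} (hk : k * π.natDegree = 3) (h : Cyc a (π ^ k))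
    (h' : Cyc a' (π ^ k)) {ν : F} (hν : ¬ IsSquare ν) :
    ∃ c : F, (c = 1 ∨ c = ν) ∧ ∃ T : V ≃ₗ[F] V', (∀ u v, B' (T u) (T v) = c * B u v) ∧
      ∀ v, T (a v) = a' (T v) := by
  classical
  have hk1 : 1 ≤ k := Nat.pos_of_ne_zero fun h0 => by simp [h0] at hk
  have hk3 : k ≤ 3 := by have := hπ.natDegree_pos; nlinarith
  have hd : (π ^ k).degree = (3 : ℕ) := by
    rw [degree_eq_natDegree (pow_ne_zero _ hπ.ne_zero), natDegree_pow, hk]
  have hmonic : (π ^ k).Monic := hπm.pow k
  obtain ⟨h0, x, hx⟩ := h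
  obtain ⟨h0', x', hx'⟩ := h'
  set s := sOp a with hs
  set s' := sOp a' with hs'
  have hlt : ∀ P : F[X], (P %ₘ π ^ k).degree < (π ^ k).degree := fun P => degree_modByMonic_lt _ hmonic
  let D := Polynomial.degreeLT F 3
  have hfr : finrank F D = 3 := by
    rw [(Polynomial.degreeLTEquiv F 3).finrank_eq, finrank_fin_fun]
  have : FiniteDimensional F D := Module.Finite.equiv (Polynomial.degreeLTEquiv F 3).symm
  let Φ : D →ₗ[F] Module.Dual F D := LinearMap.mk₂ F (fun R P => B' (aeval s' (P.1 * R.1) x') (a' x'))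
    (fun R R' P => by simp [mul_add]) (fun c R P => by simp)
    (fun R P P' => by simp [add_mul]) (fun c R P => by simp)
  have hΦ : Function.Injective Φ := by
    rw [injective_iff_map_eq_zero]
    intro R hR
    exact Subtype.ext (S'.phi_nondeg hdim' hd hx' (hd ▸ Polynomial.mem_degreeLT.1 R.2) fun P hP =>
      LinearMap.congr_fun hR ⟨P, Polynomial.mem_degreeLT.2 (hd ▸ hP)⟩)
  obtain ⟨R, hR⟩ := (LinearMap.injective_iff_surjective_of_finrank_eq_finrank
    (Subspace.dual_finrank_eq (K := F) (V := D)).symm).1 hΦ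
    { toFun := fun P => B (aeval s P.1 x) (a x)
      map_add' := fun P P' => by simp
      map_smul' := fun c P => by simp }
  have hR' : ∀ P : F[X], B' (aeval s' (P * R.1) x') (a' x') = B (aeval s P x) (a x) := fun P => by
    have hm := LinearMap.congr_fun hR ⟨P %ₘ π ^ k, Polynomial.mem_degreeLT.2 (hd ▸ hlt P)⟩
    have hm' : B' (aeval s' ((P %ₘ π ^ k) * R.1) x') (a' x') = B (aeval s (P %ₘ π ^ k) x) (a x) := hm
    rwa [map_mul, aeval_modByMonic_eq_self_of_root h0', ← map_mul, S.phi_mod x h0] at hm'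
  have hcop : ¬ π ∣ R.1 := by
    rintro ⟨R₁, hR₁⟩
    have hlt' : (π ^ (k - 1)).degree < (π ^ k).degree := by
      rw [degree_eq_natDegree (pow_ne_zero _ hπ.ne_zero), degree_eq_natDegree (pow_ne_zero _ hπ.ne_zero),
        Nat.cast_lt, natDegree_pow, natDegree_pow]
      exact Nat.mul_lt_mul_of_pos_right (by omega) hπ.natDegree_pos
    refine pow_ne_zero (k - 1) hπ.ne_zero (S.phi_nondeg hdim hd hx hlt' fun P _ => ?_)
    have e : P * π ^ (k - 1) * (π * R₁) = P * R₁ * π ^ k := by
      conv_rhs => rw [← Nat.sub_add_cancel hk1, pow_succ]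
      ring
    rw [← hR', hR₁, e, aeval_mul_apply, h0', LinearMap.zero_apply, map_zero, map_zero, LinearMap.zero_apply]
  have : Fact (Irreducible π) := ⟨hπ⟩
  have : Module.Finite F (AdjoinRoot π) := (AdjoinRoot.powerBasis hπm.ne_zero).finite
  have : Finite (AdjoinRoot π) := Module.finite_of_finite F
  have := Fintype.ofFinite (AdjoinRoot π)
  have hνK : ¬ IsSquare (algebraMap F (AdjoinRoot π) ν) := not_isSquare_algebraMap hν (by
    rwa [(AdjoinRoot.powerBasis hπm.ne_zero).finrank, AdjoinRoot.powerBasis_dim])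
  obtain ⟨c, hc, u₀, hu₀⟩ : ∃ c : F, (c = 1 ∨ c = ν) ∧ ∃ u₀ : F[X], π ∣ u₀ * u₀ - C c * R.1 := by
    by_cases h1 : IsSquare (AdjoinRoot.mk π R.1)
    · obtain ⟨z, hz⟩ := h1
      obtain ⟨u₀, rfl⟩ := AdjoinRoot.mk_surjective z
      exact ⟨1, Or.inl rfl, u₀, AdjoinRoot.mk_eq_mk.1 (by rw [map_mul, map_one, one_mul, hz])⟩
    by_cases h2 : IsSquare (algebraMap F (AdjoinRoot π) ν * AdjoinRoot.mk π R.1)
    · obtain ⟨z, hz⟩ := h2
      obtain ⟨u₀, rfl⟩ := AdjoinRoot.mk_surjective z
      exact ⟨ν, Or.inr rfl, u₀, AdjoinRoot.mk_eq_mk.1 (by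
        rw [map_mul, map_mul, AdjoinRoot.mk_C, ← AdjoinRoot.algebraMap_eq, hz])⟩
    exfalso
    have hν0 : algebraMap F (AdjoinRoot π) ν ≠ 0 := fun h => hνK (h ▸ IsSquare.zero)
    rw [← quadraticChar_neg_one_iff_not_isSquare] at h1 h2 hνK
    rw [map_mul, h1, hνK] at h2
    norm_num at h2
  refine ⟨c, hc, ?_⟩
  have hc0 : c ≠ 0 := by
    rcases hc with rfl | rfl
    · exact one_ne_zero
    · exact fun h => hν (h ▸ IsSquare.zero)
  obtain ⟨R', b, hb⟩ : IsCoprime (C c * R.1) (π ^ k) := by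
    refine IsCoprime.pow_right (IsCoprime.mul_left ⟨C c⁻¹, 0, ?_⟩ ((hπ.coprime_iff_not_dvd).2 hcop).symm)
    rw [zero_mul, add_zero, ← C_mul, inv_mul_cancel₀ hc0, C_1]
  set u := u₀ ^ 3 * R' with hu
  obtain ⟨T', hT'⟩ : π ^ k ∣ u * u - C c * R.1 := by
    have h1 : π ∣ R' * (u₀ * u₀) - 1 := by
      have e : R' * (u₀ * u₀) - 1 = R' * (u₀ * u₀ - C c * R.1) + -b * π ^ k := by linear_combination hb
      rw [e]
      exact dvd_add (hu₀.mul_left _) ((dvd_pow_self π (by omega)).mul_left _)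
    have h3 : π ^ k ∣ (R' * (u₀ * u₀)) ^ 3 - 1 := by
      have := (pow_dvd_pow π hk3).trans (pow_dvd_pow_of_dvd h1 3)
      rwa [sub_pow_char, one_pow] at this
    have e : u * u - C c * R.1 = C c * R.1 * ((R' * (u₀ * u₀)) ^ 3 - 1) + u * u * b * π ^ k := by
      rw [hu]; linear_combination (-(u₀ ^ 6 * R' ^ 2)) * hb
    rw [e]
    exact dvd_add (h3.mul_left _) (dvd_mul_left _ _)
  set y := aeval s' u x' with hy
  have hψ : ∀ P : F[X], B' (aeval s' P y) (a' y) = c * B (aeval s P x) (a x) := fun P => by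
    have e : u * (P * u) = C c * (P * R.1) + P * T' * π ^ k := by linear_combination P * hT'
    rw [hy, ← aeval_comm, ← aeval_mul_apply, ← S'.aeval_adj, ← aeval_mul_apply, e, map_add, LinearMap.add_apply,
      map_mul _ (P * T'), h0', mul_zero, LinearMap.zero_apply, add_zero, aeval_mul_apply, aeval_C,
      Module.algebraMap_end_apply, map_smul, LinearMap.smul_apply, smul_eq_mul, hR']
  let L := LinearEquiv.ofBijective _ (Cyc.gen_bijective hdim hd hx)
  let T : V →ₗ[F] V' := ((gen a' y).comp (D.subtype.prodMap D.subtype)).comp L.symm.toLinearMap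
  have hT : ∀ P Q : F[X], T (gen a x (P, Q)) = gen a' y (P, Q) := fun P Q => by
    have e : gen a x (P, Q) = L (⟨P %ₘ π ^ k, Polynomial.mem_degreeLT.2 (hd ▸ hlt P)⟩,
        ⟨Q %ₘ π ^ k, Polynomial.mem_degreeLT.2 (hd ▸ hlt Q)⟩) := gen_mod a x h0 P Q
    rw [e, gen_mod a' y h0' P Q]
    simp [T, D]
  have hsurj : ∀ v, ∃ P Q : F[X], v = gen a x (P, Q) := fun v => by
    obtain ⟨g, hg⟩ := L.surjective v
    exact ⟨g.1.1, g.2.1, hg.symm⟩
  have hiso : ∀ v w, B' (T v) (T w) = c * B v w := fun v w => by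
    obtain ⟨P, Q, rfl⟩ := hsurj v
    obtain ⟨P', Q', rfl⟩ := hsurj w
    rw [hT, hT, S'.form_gen, S.form_gen, hψ, hψ, mul_sub]
  have hinj : Function.Injective T := by
    rw [injective_iff_map_eq_zero]
    refine fun v hv => S.nondeg v fun w => ?_
    have := hiso v w
    rw [hv, map_zero, LinearMap.zero_apply, eq_comm, mul_eq_zero] at this
    exact this.resolve_left hc0
  refine ⟨LinearEquiv.ofBijective T ⟨hinj, (LinearMap.injective_iff_surjective_of_finrank_eq_finrank
    (hdim.trans hdim'.symm)).1 hinj⟩, hiso, fun v => ?_⟩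
  obtain ⟨P, Q, rfl⟩ := hsurj v
  show T (a (gen a x (P, Q))) = a' (T (gen a x (P, Q)))
  rw [gen_step, hT, hT, gen_step]

/-- The Gram matrix of a normalised pair. -/
def gram : Matrix (Fin 6) (Fin 6) F :=
  !![0, 0, 0, 0, 1, 1; 0, 0, 0, 0, -1, 0; 0, 0, 0, 1, 0, 0; 0, 0, -1, 0, 0, 0; -1, 1, 0, 0, 0, 0;
    -1, 0, 0, 0, 0, 0]

/-- A normalised pair for a unipotent of type `(3, 3)`. -/
theorem exists_unip_pair (S : Setup B a) (h : Unip3 a) :
    ∃ x y : V, let n : Module.End F V := a.toLinearMap - 1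
      (∀ v, n (n (n v)) = 0) ∧
      ∀ i j, B (![x, n x, n (n x), y, n y, n (n y)] i) (![x, n x, n (n x), y, n y, n (n y)] j) = gram i j := by
  obtain ⟨h3, v₀, hv₀⟩ := h
  set n : Module.End F V := a.toLinearMap - 1 with hn
  have hn3 : ∀ v, n (n (n v)) = 0 := fun v => by rw [← h3 v]; simp [hn]; abel
  have hn2 : n (n v₀) ≠ 0 := by
    convert hv₀ using 1
    simp [hn, two_smul]; abel
  have hid : ∀ u v, B (n u) v + B u (n v) + B (n u) (n v) = 0 := fun u v => by
    simp [hn, S.iso]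
  have e22 : ∀ u v, B (n (n u)) (n (n v)) = 0 := fun u v => by
    simpa [hn3] using hid (n u) (n (n v))
  have e21 : ∀ u v, B (n (n u)) (n v) = 0 := fun u v => by
    simpa [hn3, e22] using hid (n (n u)) v
  have e12 : ∀ u v, B (n u) (n (n v)) = 0 := fun u v => by rw [S.flip, e21, neg_zero]
  have e11 : ∀ u v, B (n u) (n v) = -B (n (n u)) v := fun u v => by
    have := hid (n u) v
    rw [e21, add_zero] at this
    linear_combination this
  have e02 : ∀ u v, B u (n (n v)) = B (n (n u)) v := fun u v => by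
    have := hid u (n v)
    rw [e12, add_zero, e11] at this
    linear_combination this
  have e00 : ∀ u, B (n (n u)) u = 0 := fun u => by
    have h := S.flip (n (n u)) u
    rw [e02] at h
    have h' : (2 : F) * B (n (n u)) u = 0 := by linear_combination h
    exact (mul_eq_zero.1 h').resolve_left S.two
  obtain ⟨y₀, hy₀⟩ : ∃ y, B (n (n v₀)) y ≠ 0 := by
    by_contra h; push Not at h; exact hn2 (S.nondeg _ h)
  obtain ⟨y, hxy⟩ : ∃ y, B (n (n v₀)) y = 1 :=
    ⟨(B (n (n v₀)) y₀)⁻¹ • y₀, by rw [map_smul, smul_eq_mul, inv_mul_cancel₀ hy₀]⟩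
  obtain ⟨x, hp, hxy⟩ : ∃ x, B x (n x) = 0 ∧ B (n (n x)) y = 1 := by
    refine ⟨v₀ + (-(B v₀ (n v₀)) / 2) • n y, ?_, ?_⟩
    · have h1 : B (n y) (n v₀) = 1 := by rw [S.flip, e11, hxy, neg_neg]
      simp [h1, e02, hxy, e12, hn3]
      field_simp [S.two]
      ring
    · simp [hn3, hxy]
  obtain ⟨y, hr, hxy⟩ : ∃ y', B y' (n y') = 0 ∧ B (n (n x)) y' = 1 := by
    refine ⟨y + (B y (n y) / 2) • n x, ?_, ?_⟩
    · have h1 : B (n x) (n y) = -1 := by rw [e11, hxy]
      have h2 : B (n (n y)) x = -1 := by rw [S.flip, e02, hxy]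
      simp [h1, h2, e02, e12, hn3]
      field_simp [S.two]
      ring
    · simp [e21, hxy]
  obtain ⟨y, hg, hr, hxy⟩ : ∃ y', B (n x) y' = 0 ∧ B y' (n y') = 0 ∧ B (n (n x)) y' = 1 := by
    refine ⟨y + B (n x) y • n y, ?_, ?_, ?_⟩
    · have h1 : B (n x) (n y) = -1 := by rw [e11, hxy]
      simp [h1]
    · simp [hr, e02, e00, e11, hn3]
    · simp [e21, hxy]
  obtain ⟨y, h03, h13, h34, h23⟩ :
      ∃ y', B x y' = 0 ∧ B (n x) y' = 0 ∧ B y' (n y') = 0 ∧ B (n (n x)) y' = 1 := by
    refine ⟨y + (-B x y) • n (n y), ?_, ?_, ?_, ?_⟩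
    · simp [e02, hxy]
    · simp [hg, e12]
    · simp [hr, e02, e00, e11, e21, hn3]
    · simp [e22, hxy]
  have h04 : B x (n y) = 1 := by
    have := hid x y
    rw [h13, e11, h23] at this
    linear_combination this
  have h14 : B (n x) (n y) = -1 := by rw [e11, h23]
  have h02 : B x (n (n x)) = 0 := by rw [e02, e00]
  have h05 : B x (n (n y)) = 1 := by rw [e02, h23]
  have h35 : B y (n (n y)) = 0 := by rw [e02, e00]
  have k10 : B (n x) x = 0 := by rw [S.flip, hp, neg_zero]
  have k20 : B (n (n x)) x = 0 := e00 x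
  have k30 : B y x = 0 := by rw [S.flip, h03, neg_zero]
  have k40 : B (n y) x = -1 := by rw [S.flip, h04]
  have k50 : B (n (n y)) x = -1 := by rw [S.flip, h05]
  have k31 : B y (n x) = 0 := by rw [S.flip, h13, neg_zero]
  have k41 : B (n y) (n x) = 1 := by rw [S.flip, h14, neg_neg]
  have k32 : B y (n (n x)) = -1 := by rw [S.flip, h23]
  have k43 : B (n y) y = 0 := by rw [S.flip, h34, neg_zero]
  refine ⟨x, y, hn3, fun i j => ?_⟩
  fin_cases i <;> fin_cases j <;>
    simp [gram, S.alt.self_eq_zero, hp, h02, h03, h04, h05, h13, h14, h23, h34, h35, k10, k20, k30, k40, k50, k31,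
      k41, k32, k43, e00 y, e12, e21, e22]

/-- Unipotents of type `(3, 3)` are conjugate. -/
theorem unip_conj [FiniteDimensional F V] [FiniteDimensional F V'] (S : Setup B a) (S' : Setup B' a')
    (hdim : finrank F V = 6) (hdim' : finrank F V' = 6) (h : Unip3 a) (h' : Unip3 a') :
    ∃ T : V ≃ₗ[F] V', (∀ u v, B' (T u) (T v) = B u v) ∧ ∀ v, T (a v) = a' (T v) := by
  obtain ⟨x, y, hn, hp⟩ := exists_unip_pair S h
  obtain ⟨x', y', hn', hq⟩ := exists_unip_pair S' h'
  set n : Module.End F V := a.toLinearMap - 1 with hdn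
  set n' : Module.End F V' := a'.toLinearMap - 1 with hdn'
  let L : (Fin 6 → F) →ₗ[F] V := Fintype.linearCombination F ![x, n x, n (n x), y, n y, n (n y)]
  let L' : (Fin 6 → F) →ₗ[F] V' := Fintype.linearCombination F ![x', n' x', n' (n' x'), y', n' y', n' (n' y')]
  let G : (Fin 6 → F) → (Fin 6 → F) → F := fun c d => ∑ i, ∑ j, c i * d j * gram i j
  have hL : ∀ c d, B (L c) (L d) = G c d := fun c d => by
    simp only [L, G, Fintype.linearCombination_apply, map_sum, map_smul, LinearMap.sum_apply, LinearMap.smul_apply,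
      smul_eq_mul, hp, Finset.mul_sum]
    rw [Finset.sum_comm]
    exact Finset.sum_congr rfl fun i _ => Finset.sum_congr rfl fun j _ => by ring
  have hL' : ∀ c d, B' (L' c) (L' d) = G c d := fun c d => by
    simp only [L', G, Fintype.linearCombination_apply, map_sum, map_smul, LinearMap.sum_apply, LinearMap.smul_apply,
      smul_eq_mul, hq, Finset.mul_sum]
    rw [Finset.sum_comm]
    exact Finset.sum_congr rfl fun i _ => Finset.sum_congr rfl fun j _ => by ring
  have hG : ∀ c, (∀ d, G c d = 0) → c = 0 := fun c hc => by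
    have hj : ∀ j, ∑ i, c i * gram i j = 0 := fun j => by
      simpa [G, Pi.single_apply, Finset.sum_ite_eq', mul_ite, ite_mul] using hc (Pi.single j 1)
    have e5 := hj 0
    have e4 := hj 1
    have e3 := hj 2
    have e2 := hj 3
    have e1 := hj 4
    have e0 := hj 5
    simp [gram, Fin.sum_univ_six] at e0 e1 e2 e3 e4 e5
    funext i
    fin_cases i <;> simp_all
  have hinj : Function.Injective L := by
    rw [injective_iff_map_eq_zero]
    exact fun c hc => hG c fun d => by rw [← hL, hc, map_zero, LinearMap.zero_apply]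
  have hinj' : Function.Injective L' := by
    rw [injective_iff_map_eq_zero]
    exact fun c hc => hG c fun d => by rw [← hL', hc, map_zero, LinearMap.zero_apply]
  let eL := LinearEquiv.ofBijective L ⟨hinj, (LinearMap.injective_iff_surjective_of_finrank_eq_finrank
    (by rw [finrank_fin_fun, hdim])).1 hinj⟩
  let eL' := LinearEquiv.ofBijective L' ⟨hinj', (LinearMap.injective_iff_surjective_of_finrank_eq_finrank
    (by rw [finrank_fin_fun, hdim'])).1 hinj'⟩
  refine ⟨eL.symm.trans eL', fun u v => ?_, fun v => ?_⟩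
  · obtain ⟨c, rfl⟩ := eL.surjective u
    obtain ⟨d, rfl⟩ := eL.surjective v
    simp only [LinearEquiv.trans_apply, LinearEquiv.symm_apply_apply]
    show B' (L' c) (L' d) = B (L c) (L d)
    rw [hL, hL']
  · obtain ⟨c, rfl⟩ := eL.surjective v
    let c' : Fin 6 → F := ![c 0, c 0 + c 1, c 1 + c 2, c 3, c 3 + c 4, c 4 + c 5]
    have e : a (eL c) = eL c' := by
      have hna : ∀ v, a v = v + n v := fun v => by simp [hdn]
      rw [hna]
      show L c + n (L c) = L c'
      simp [L, c', Fintype.linearCombination_apply, Fin.sum_univ_six, hn]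
      module
    have e' : a' (eL' c) = eL' c' := by
      have hna : ∀ v, a' v = v + n' v := fun v => by simp [hdn']
      rw [hna]
      show L' c + n' (L' c) = L' c'
      simp [L', c', Fintype.linearCombination_apply, Fin.sum_univ_six, hn']
      module
    simp only [LinearEquiv.trans_apply, e, LinearEquiv.symm_apply_apply, e']

end CfsgLib.NormalCover.SpSix
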