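import Cfsg.Agent.Lib.NormalCover.SpSix.Conj

/-!
The field-extension model `E × E`, `[E : F] = 3`, of the six-dimensional symplectic space in characteristic `3`:
semilinear isometries realise every type of isometry without invariant plane.
-/

set_option autoImplicit false
set_option linter.unusedSectionVars false

namespace CfsgLib.NormalCover.SpSix

open Polynomial Module
open LinearMap (BilinForm)

variable {F E : Type*} [Field F] [Field E] [Algebra F E]

/-- The alternating form `Tr (x₂ y₁ - x₁ y₂)`. -/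
noncomputable def modelForm (F E : Type*) [Field F] [Field E] [Algebra F E] : BilinForm F (E × E) :=
  LinearMap.mk₂ F (fun x y => Algebra.trace F E (x.2 * y.1 - x.1 * y.2))
    (fun x x' y => by rw [← map_add]; congr 1; simp; ring)
    (fun c x y => by rw [← map_smul]; simp [smul_sub])
    (fun x y y' => by rw [← map_add]; congr 1; simp; ring)
    (fun c x y => by rw [← map_smul]; simp [smul_sub])

theorem modelForm_apply (x y : E × E) : modelForm F E x y = Algebra.trace F E (x.2 * y.1 - x.1 * y.2) := rfl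

/-- Semilinear maps with matrix of determinant `1`. -/
def semi (σ : E ≃ₐ[F] E) (p q r t : E) (h : p * t - q * r = 1) : (E × E) ≃ₗ[F] (E × E) where
  toFun x := (p * σ x.1 + q * σ x.2, r * σ x.1 + t * σ x.2)
  invFun y := (σ.symm (t * y.1 - q * y.2), σ.symm (p * y.2 - r * y.1))
  map_add' x y := by ext <;> simp <;> ring
  map_smul' c x := by ext <;> simp
  left_inv x := by
    ext
    · apply σ.injective; rw [σ.apply_symm_apply]; linear_combination σ x.1 * h
    · apply σ.injective; rw [σ.apply_symm_apply]; linear_combination σ x.2 * h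
  right_inv y := by
    simp only [AlgEquiv.apply_symm_apply]
    ext
    · linear_combination y.1 * h
    · linear_combination y.2 * h

theorem semi_apply (σ : E ≃ₐ[F] E) (p q r t : E) (h : p * t - q * r = 1) (x : E × E) :
    semi σ p q r t h x = (p * σ x.1 + q * σ x.2, r * σ x.1 + t * σ x.2) := rfl

theorem semi_symm_apply (σ : E ≃ₐ[F] E) (p q r t : E) (h : p * t - q * r = 1) (y : E × E) :
    (semi σ p q r t h).symm y = (σ.symm (t * y.1 - q * y.2), σ.symm (p * y.2 - r * y.1)) := rfl

/-- The semilinear maps. -/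
def semiGroup (F E : Type*) [Field F] [Field E] [Algebra F E] : Subgroup ((E × E) ≃ₗ[F] (E × E)) where
  carrier := {a | ∃ σ : E ≃ₐ[F] E, ∀ (c : E) (x : E × E), a (c • x) = σ c • a x}
  one_mem' := ⟨AlgEquiv.refl, fun _ _ => rfl⟩
  mul_mem' := fun {a b} ⟨σ, ha⟩ ⟨τ, hb⟩ => ⟨τ.trans σ, fun c x => by
    show a (b (c • x)) = σ (τ c) • a (b x)
    rw [hb, ha]⟩
  inv_mem' := fun {a} ⟨σ, ha⟩ => ⟨σ.symm, fun c x => a.injective (by
    rw [ha, σ.apply_symm_apply]
    show a (a.symm (c • x)) = c • a (a.symm x)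
    rw [a.apply_symm_apply, a.apply_symm_apply])⟩

theorem semi_mem (σ : E ≃ₐ[F] E) (p q r t : E) (h : p * t - q * r = 1) : semi σ p q r t h ∈ semiGroup F E :=
  ⟨σ, fun c x => by
    rw [semi_apply, semi_apply]
    ext <;> simp <;> ring⟩

theorem neg_mem_semiGroup {a : (E × E) ≃ₗ[F] (E × E)} (h : a ∈ semiGroup F E) :
    a.trans (LinearEquiv.neg F) ∈ semiGroup F E := by
  obtain ⟨σ, hσ⟩ := h
  exact ⟨σ, fun c x => by simp [hσ]⟩

/-- A similitude normalising the semilinear maps. -/
def similitude {ν : F} (hν : ν ≠ 0) : (E × E) ≃ₗ[F] (E × E) :=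
  (LinearEquiv.refl F E).prodCongr (LinearEquiv.smulOfUnit (Units.mk0 ν hν))

theorem similitude_form {ν : F} (hν : ν ≠ 0) (x y : E × E) :
    modelForm F E (similitude hν x) (similitude hν y) = ν * modelForm F E x y := by
  rw [modelForm_apply, modelForm_apply]
  conv_rhs => rw [← smul_eq_mul, ← map_smul]
  congr 1
  simp [similitude, LinearEquiv.smulOfUnit, Units.smul_def, smul_sub]

theorem similitude_conj_mem {ν : F} (hν : ν ≠ 0) {a : (E × E) ≃ₗ[F] (E × E)} (ha : a ∈ semiGroup F E) :
    (similitude hν).symm.trans (a.trans (similitude hν)) ∈ semiGroup F E := by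
  obtain ⟨σ, hσ⟩ := ha
  have h : ∀ (c : E) (x : E × E), similitude hν (c • x) = c • similitude hν x := fun c x => by
    simp [similitude, LinearEquiv.smulOfUnit, Units.smul_def]
  refine ⟨σ, fun c x => ?_⟩
  have h' : (similitude hν).symm (c • x) = c • (similitude hν).symm x :=
    (similitude hν).injective (by rw [h, LinearEquiv.apply_symm_apply, LinearEquiv.apply_symm_apply])
  simp only [LinearEquiv.trans_apply, h', hσ, h]

theorem sOp_cube {V : Type*} [AddCommGroup V] [Module F V] [CharP F 3] (a : V ≃ₗ[F] V) (v : V) :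
    sOp a (sOp a (sOp a v)) = a (a (a v)) + a.symm (a.symm (a.symm v)) := by
  have h3 : (3 : F) = 0 := CharP.cast_eq_zero F 3
  have e : (3 : F) • (a v + a.symm v) = 0 := by rw [h3, zero_smul]
  simp only [sOp_apply, map_add, a.apply_symm_apply, a.symm_apply_apply]
  linear_combination (norm := module) e

section Finite

variable [Fintype F] [CharP F 3] [FiniteDimensional F E] (hE : finrank F E = 3)
include hE

theorem finrank_model : finrank F (E × E) = 6 := by rw [finrank_prod, hE]

theorem exists_trace_one : ∃ e : E, Algebra.trace F E e = 1 := by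
  have : Finite E := Module.finite_of_finite F
  exact Algebra.trace_surjective F E 1

/-- The Frobenius of `E/F` and the trace. -/
theorem exists_frob : ∃ (σ : E ≃ₐ[F] E) (e : E), (∀ z, σ (σ (σ z)) = z) ∧ (∀ z, σ.symm z = σ (σ z)) ∧
    e + σ e + σ (σ e) = 1 := by
  have : Finite E := Module.finite_of_finite F
  obtain ⟨e, he⟩ := exists_trace_one hE
  let σ := FiniteField.frobeniusAlgEquivOfAlgebraic F E
  have h3 : ∀ z, σ (σ (σ z)) = z := fun z => by
    have h := FiniteField.algebraMap_trace_eq_sum_pow F E z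
    have hq : ∀ w : E, σ w = w ^ Fintype.card F := fun w => rfl
    have := Fintype.ofFinite E
    rw [hq, hq, hq, ← pow_mul, ← pow_mul,
      show Fintype.card F * (Fintype.card F * Fintype.card F) = Fintype.card F ^ 3 by ring, ← hE,
      ← Module.card_eq_pow_finrank (K := F) (V := E), FiniteField.pow_card]
  refine ⟨σ, e, h3, fun z => σ.injective (by rw [σ.apply_symm_apply, h3]), ?_⟩
  have h := FiniteField.algebraMap_trace_eq_sum_pow F E e
  rw [he, map_one, hE, Nat.card_eq_fintype_card, Finset.sum_range_succ, Finset.sum_range_succ,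
    Finset.sum_range_one, pow_zero, pow_one, pow_one] at h
  have hq : ∀ w : E, σ w = w ^ Fintype.card F := fun w => rfl
  rw [hq, hq, ← pow_mul, ← sq]
  exact h.symm

theorem modelForm_isAlt : (modelForm F E).IsAlt := fun x => by
  rw [modelForm_apply, mul_comm, sub_self, map_zero]

theorem modelForm_separatingLeft : LinearMap.SeparatingLeft (modelForm F E) := fun x hx => by
  obtain ⟨e, he⟩ := exists_trace_one hE
  by_contra h
  by_cases h2 : x.2 = 0
  · have h1 : x.1 ≠ 0 := fun h1 => h (Prod.ext h1 h2)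
    have := hx (0, x.1⁻¹ * e)
    rw [modelForm_apply] at this
    simp [h1, he] at this
  · have := hx (x.2⁻¹ * e, 0)
    rw [modelForm_apply] at this
    simp [h2, he] at this

theorem semi_setup (σ : E ≃ₐ[F] E) (p q r t : E) (h : p * t - q * r = 1) :
    Setup (modelForm F E) (semi σ p q r t h) := by
  refine ⟨fun h2 => one_ne_zero (α := F) ?_, modelForm_isAlt hE, modelForm_separatingLeft hE, fun x y => ?_⟩
  · have h3 : (3 : F) = 0 := CharP.cast_eq_zero F 3
    linear_combination h3 - h2
  · rw [modelForm_apply, modelForm_apply, ← Algebra.trace_eq_of_algEquiv σ (x.2 * y.1 - x.1 * y.2)]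
    congr 1
    simp only [semi_apply, map_sub, map_mul]
    linear_combination (σ x.2 * σ y.1 - σ x.1 * σ y.2) * h

/-- Irreducible cubics. -/
theorem exists_cyc_irreducible {π : F[X]} (hπ : Irreducible π) (hπm : π.Monic) (hd : π.natDegree = 3) :
    ∃ a ∈ semiGroup F E, Setup (modelForm F E) a ∧ Cyc a π := by
  have : Fact (Irreducible π) := ⟨hπ⟩
  have : Module.Finite F (AdjoinRoot π) := (AdjoinRoot.powerBasis hπm.ne_zero).finite
  have : Finite E := Module.finite_of_finite F
  obtain ⟨φ⟩ := FiniteField.nonempty_algHom_of_finrank_dvd (F := F) (K := AdjoinRoot π) (L := E) (by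
    rw [(AdjoinRoot.powerBasis hπm.ne_zero).finrank, AdjoinRoot.powerBasis_dim, hd, hE])
  set τ := φ (AdjoinRoot.root π)
  have hτ : aeval τ π = 0 := by
    rw [aeval_algHom_apply, AdjoinRoot.aeval_eq, AdjoinRoot.mk_self, map_zero]
  let a := semi (AlgEquiv.refl : E ≃ₐ[F] E) τ (-1) 1 0 (by ring)
  have hs : ∀ v, sOp a v = τ • v := fun v => by
    rw [sOp_apply, semi_apply, semi_symm_apply]
    ext <;> simp
  have haeval : ∀ (P : F[X]) (v : E × E), aeval (sOp a) P v = aeval τ P • v := fun P => by
    induction P using Polynomial.induction_on with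
    | C c => intro v; simp [algebraMap_smul]
    | add P R hP hR => intro v; simp [hP, hR, add_smul]
    | monomial k c ih =>
      intro v
      rw [pow_succ, ← mul_assoc, aeval_mul_apply, aeval_X, hs, ih, map_mul _ (C c * X ^ k), aeval_X, mul_smul]
  refine ⟨a, semi_mem _ _ _ _ _ _, semi_setup hE _ _ _ _ _ _, LinearMap.ext fun v => ?_, (1, 0), fun P R hP hR h => ?_⟩
  · rw [haeval, hτ, zero_smul, LinearMap.zero_apply]
  rw [haeval, haeval, semi_apply] at h
  simp only [map_one, map_zero, mul_one, mul_zero, add_zero, Prod.smul_mk, smul_eq_mul,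
    Prod.mk_add_mk, Prod.mk_eq_zero, zero_add] at h
  obtain ⟨h1, h2⟩ := h
  rw [h2, zero_mul, add_zero] at h1
  have hmin : minpoly F τ = π := (minpoly.eq_of_irreducible_of_monic hπ hτ hπm).symm
  exact ⟨eq_zero_of_dvd_of_degree_lt (hmin ▸ minpoly.dvd F τ h1) hP,
    eq_zero_of_dvd_of_degree_lt (hmin ▸ minpoly.dvd F τ h2) hR⟩

theorem cyc_of_cube {a : (E × E) ≃ₗ[F] (E × E)} {c : F}
    (h : ∀ v, a (a (a v)) + a.symm (a.symm (a.symm v)) = c ^ 3 • v) {x : E × E}
    (hind : ∀ p r : F, p • (sOp a (sOp a x) - (2 * c) • sOp a x + (c * c) • x) +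
      r • a (sOp a (sOp a x) - (2 * c) • sOp a x + (c * c) • x) = 0 → p = 0 ∧ r = 0) :
    Cyc a ((X - C c) ^ 3) := by
  have hN3 : aeval (sOp a) ((X - C c) ^ 3) = 0 := by
    rw [sub_pow_char, ← C_pow]
    refine LinearMap.ext fun v => ?_
    simp [pow_succ, sOp_cube, h, smul_smul, mul_assoc]
  refine ⟨hN3, x, fun P R hP hR h' => ?_⟩
  have hd : ((X - C c) ^ 3 : F[X]).degree = (3 : ℕ) := by simp
  rw [hd] at hP hR
  refine Setup.chain_indep (x := x) (y := a x) hN3 (fun p r hpr => hind p r ?_) 3 le_rfl P R hP hR (by simp [h'])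
  rw [aeval_comm] at hpr
  simp only [pow_two, aeval_mul_apply, aeval_linear] at hpr
  simp only [map_add, map_sub, map_smul] at hpr ⊢
  linear_combination (norm := module) hpr

/-- One eigenvalue. -/
theorem exists_cyc_cube (c : F) : ∃ a ∈ semiGroup F E, Setup (modelForm F E) a ∧ Cyc a ((X - C c) ^ 3) := by
  obtain ⟨σ, e, hσ3, hσs, hT⟩ := exists_frob (E := E) hE
  set C' := algebraMap F E c with hC'
  have hσc : σ C' = C' := σ.commutes c
  have h3F : (3 : F) = 0 := CharP.cast_eq_zero F 3
  have h3 : (3 : E) = 0 := by rw [← map_ofNat (algebraMap F E) 3, h3F, map_zero]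
  by_cases hc : c * c = 1
  · have hC2 : C' * C' = 1 := by rw [hC', ← map_mul, hc, map_one]
    let a := semi σ (-C') (-(C' * e)) 0 (-C') (by linear_combination hC2)
    refine ⟨a, semi_mem _ _ _ _ _ _, semi_setup hE _ _ _ _ _ _, cyc_of_cube hE (x := (0, e)) (fun v => ?_) ?_⟩
    · obtain ⟨v₁, v₂⟩ := v
      simp only [a, semi_apply, semi_symm_apply, Prod.mk_add_mk, Prod.smul_mk]
      simp only [hσs, map_add, map_sub, map_mul, map_neg, map_zero, hσc, hσ3,
        Algebra.smul_def, map_pow, ← hC']
      ext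
      · linear_combination (-(C' ^ 3 * v₁)) * h3
      · linear_combination (-(C' ^ 3 * v₂)) * h3
    set w := e * σ e - σ (σ (e * e)) with hw
    set z := w + σ w + σ (σ w) + e - σ (σ e) with hz
    have hM : sOp a (sOp a (0, e)) - (2 * c) • sOp a (0, e) + (c * c) • ((0 : E), e) = (z, 0) := by
      simp only [a, sOp_apply, semi_apply, semi_symm_apply, Prod.mk_add_mk, Prod.mk_sub_mk, Prod.smul_mk]
      simp only [hσs, map_add, map_sub, map_mul, map_neg, map_zero, hσc,
        hσ3, Algebra.smul_def, map_ofNat, ← hC', hz, hw]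
      ext
      · linear_combination
          (e * σ e - σ (σ e) * σ (σ e) + σ e * σ (σ e) - e * e + σ (σ e) * e - σ e * σ e + e * σ e -
            σ (σ e) * σ (σ e) + e * e - σ (σ e) * σ e) * hC2 + (e - σ (σ e)) * hT
      · linear_combination (C' * C' * (e + σ e + σ (σ e))) * h3
    have hz1 : σ z = z + 1 := by
      simp only [hz, hw, map_add, map_sub, map_mul, hσ3]
      linear_combination hT - e * h3
    intro p r h
    rw [hM] at h
    simp only [a, semi_apply, map_zero, mul_zero, add_zero, Prod.smul_mk, Prod.mk_add_mk, hz1] at h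
    simp only [Algebra.smul_def, Prod.mk_eq_zero] at h
    replace h := h.1
    set P' := algebraMap F E p with hP'
    set R' := algebraMap F E r with hR'
    have h' := congrArg σ h
    simp only [map_add, map_mul, map_neg, map_one, map_zero, hP', hR', AlgEquiv.commutes, hz1, hσc] at h'
    have e1 : P' = R' * C' := by linear_combination h' - h
    have e2 : R' * C' = 0 := by linear_combination -h + z * e1
    refine ⟨?_, ?_⟩
    · exact (map_eq_zero (algebraMap F E)).1 (e1.trans e2)
    · exact (map_eq_zero (algebraMap F E)).1 (show R' = 0 by linear_combination C' * e2 - R' * hC2)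
  · let a := semi σ C' (-1) 1 0 (by ring)
    refine ⟨a, semi_mem _ _ _ _ _ _, semi_setup hE _ _ _ _ _ _, cyc_of_cube hE (x := (e, 0)) (fun v => ?_) ?_⟩
    · obtain ⟨v₁, v₂⟩ := v
      simp only [a, semi_apply, semi_symm_apply, Prod.mk_add_mk, Prod.smul_mk]
      simp only [hσs, map_add, map_sub, map_mul, map_neg, map_zero, map_one, hσc, hσ3,
        Algebra.smul_def, map_pow, ← hC']
      ext
      · linear_combination (-(C' * v₁)) * h3
      · linear_combination (-(C' * v₂)) * h3
    have hM : sOp a (sOp a (e, 0)) - (2 * c) • sOp a (e, 0) + (c * c) • (e, (0 : E)) = (C' * C' - 1, 0) := by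
      simp only [a, sOp_apply, semi_apply, semi_symm_apply, Prod.mk_add_mk, Prod.mk_sub_mk, Prod.smul_mk]
      simp only [hσs, map_add, map_sub, map_mul, map_neg, map_zero,
        map_one, hσc, hσ3, Algebra.smul_def, map_ofNat, ← hC']
      ext
      · linear_combination (C' * C' - 1) * hT + (e - C' * C' * σ e) * h3
      · linear_combination C' * (σ (σ e) - σ e) * h3
    intro p r h
    rw [hM] at h
    simp only [a, semi_apply, map_sub, map_mul, hσc, map_one, map_zero, mul_zero, add_zero, one_mul,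
      Prod.smul_mk, Prod.mk_add_mk] at h
    simp only [Algebra.smul_def, Prod.mk_eq_zero, zero_add, mul_zero] at h
    have hk : C' * C' - 1 ≠ 0 := fun h0 => hc (sub_eq_zero.1 ((map_eq_zero (algebraMap F E)).1
      (by rw [map_sub, map_mul, map_one]; exact h0)))
    obtain ⟨h1, h2⟩ := h
    have hr : algebraMap F E r = 0 := (mul_eq_zero.1 h2).resolve_right hk
    rw [hr, zero_mul, add_zero, mul_eq_zero] at h1
    exact ⟨(map_eq_zero _).1 (h1.resolve_right hk), (map_eq_zero _).1 hr⟩

/-- Type `(3, 3)`. -/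
theorem exists_unip : ∃ a ∈ semiGroup F E, Setup (modelForm F E) a ∧ Unip3 a := by
  obtain ⟨σ, e, hσ3, -, hT⟩ := exists_frob (E := E) hE
  have h3F : (3 : F) = 0 := CharP.cast_eq_zero F 3
  have h3 : (3 : E) = 0 := by rw [← map_ofNat (algebraMap F E) 3, h3F, map_zero]
  refine ⟨semi σ 1 0 0 1 (by ring), semi_mem _ _ _ _ _ _, semi_setup hE _ _ _ _ _ _, fun v => ?_, (e, 0), fun h => ?_⟩
  · obtain ⟨v₁, v₂⟩ := v
    simp [semi_apply, hσ3, nsmul_eq_mul, h3]
  · simp [semi_apply, nsmul_eq_mul] at h
    exact one_ne_zero (show (1 : E) = 0 by linear_combination h + σ e * h3 - hT)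

/-- Every isometry without invariant plane is conjugate to a semilinear one. -/
theorem exists_conj_semi {V : Type*} [AddCommGroup V] [Module F V] [FiniteDimensional F V] {B : BilinForm F V}
    {a : V ≃ₗ[F] V} (S : Setup B a) (hdim : finrank F V = 6) (hp : ¬ HasPlane B a) :
    ∃ T : V ≃ₗ[F] E × E, (∀ u v, modelForm F E (T u) (T v) = B u v) ∧
      T.symm.trans (a.trans T) ∈ semiGroup F E := by
  have hdim' := finrank_model hE
  obtain ⟨ν, hν⟩ := FiniteField.exists_nonsquare (F := F) (by rw [ringChar.eq F 3]; norm_num)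
  have hν0 : ν ≠ 0 := fun h => hν (h ▸ IsSquare.zero)
  have hcyc : ∀ (π : F[X]) (k : ℕ), Irreducible π → π.Monic → Odd π.natDegree → k * π.natDegree = 3 →
      Cyc a (π ^ k) → (∃ a₀ ∈ semiGroup F E, Setup (modelForm F E) a₀ ∧ Cyc a₀ (π ^ k)) →
      ∃ T : V ≃ₗ[F] E × E, (∀ u v, modelForm F E (T u) (T v) = B u v) ∧
        T.symm.trans (a.trans T) ∈ semiGroup F E := by
    rintro π k hπ hπm hodd hk hca ⟨a₀, ha₀, S₀, hc₀⟩
    obtain ⟨c, hc, T, hiso, hTa⟩ := cyc_conj S S₀ hdim hdim' hπ hπm hodd hk hca hc₀ hν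
    have hconj : T.symm.trans (a.trans T) = a₀ := LinearEquiv.ext fun v => by simp [hTa]
    rcases hc with rfl | hc
    · exact ⟨T, fun u v => by rw [hiso, one_mul], hconj ▸ ha₀⟩
    · have hc0 : c⁻¹ ≠ 0 := inv_ne_zero (hc ▸ hν0)
      refine ⟨T.trans (similitude hc0), fun u v => ?_, ?_⟩
      · rw [LinearEquiv.trans_apply, LinearEquiv.trans_apply, similitude_form, hiso, ← mul_assoc,
          inv_mul_cancel₀ (hc ▸ hν0), one_mul]
      · have := similitude_conj_mem hc0 ha₀
        rw [← hconj] at this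
        exact this
  rcases classify S hdim with h | ⟨π, hπm, hπ, hd, hc⟩ | ⟨c, hc⟩ | h | h
  · exact absurd h hp
  · have := hcyc π 1 hπ hπm (by rw [hd]; exact ⟨1, rfl⟩) (by rw [hd]) (by rwa [pow_one])
    rw [pow_one] at this
    exact this (exists_cyc_irreducible hE hπ hπm hd)
  · exact hcyc (X - C c) 3 (irreducible_X_sub_C c) (monic_X_sub_C c) (by rw [natDegree_X_sub_C]; exact odd_one)
      (by rw [natDegree_X_sub_C]) hc (exists_cyc_cube hE c)
  · obtain ⟨a₀, ha₀, S₀, h₀⟩ := exists_unip (E := E) hE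
    obtain ⟨T, hiso, hTa⟩ := unip_conj S S₀ hdim hdim' h h₀
    have hconj : T.symm.trans (a.trans T) = a₀ := LinearEquiv.ext fun v => by simp [hTa]
    exact ⟨T, hiso, hconj ▸ ha₀⟩
  · obtain ⟨a₀, ha₀, S₀, h₀⟩ := exists_unip (E := E) hE
    have S' : Setup B (a.trans (LinearEquiv.neg F)) := ⟨S.two, S.alt, S.nondeg, fun u v => by simp [S.iso]⟩
    obtain ⟨T, hiso, hTa⟩ := unip_conj S' S₀ hdim hdim' h h₀
    have hconj : T.symm.trans (a.trans T) = a₀.trans (LinearEquiv.neg F) := LinearEquiv.ext fun v => by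
      have := hTa (T.symm v)
      simp at this
      simp [← this]
    exact ⟨T, hiso, hconj ▸ neg_mem_semiGroup ha₀⟩

end Finite

end CfsgLib.NormalCover.SpSix
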