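import Cfsg.Prelude.Def_Classical
import Cfsg.Agent.Lib.Sp.Group
import Cfsg.Agent.Lib.Sp.Decomp
import Cfsg.Agent.Lib.NormalCover.Basic
import Cfsg.Agent.Lib.NormalCover.SpSix.Model

/-!
`PSp₆(q)`, `q` a power of `3`, is covered by the conjugates of the plane stabiliser and of the extension field
subgroup.
-/

set_option autoImplicit false

namespace CfsgLib.NormalCover.SpSix

open Matrix Module
open CfsgLib.Sp

variable {F : Type} [Field F]

local notation "V6" => (Fin 3 ⊕ Fin 3 → F)

/-- The standard hyperbolic plane. -/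
def stdPlane (F : Type) [Field F] : Submodule F (Fin 3 ⊕ Fin 3 → F) :=
  Submodule.span F {Pi.single (Sum.inr 0) 1, Pi.single (Sum.inl 0) 1}

/-- Its stabiliser. -/
def planeStab (F : Type) [Field F] : Subgroup (symplecticGroup (Fin 3) F) where
  carrier := {A | ∀ v, A.1 *ᵥ v ∈ stdPlane F ↔ v ∈ stdPlane F}
  one_mem' v := by rw [Submonoid.coe_one, one_mulVec]
  mul_mem' {A B} hA hB v := by rw [Submonoid.coe_mul, ← mulVec_mulVec, hA, hB]
  inv_mem' {A} hA v := by
    rw [← hA, mulVec_mulVec, ← Submonoid.coe_mul, mul_inv_cancel, Submonoid.coe_one, one_mulVec]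

theorem center_le_planeStab : Subgroup.center (symplecticGroup (Fin 3) F) ≤ planeStab F := fun A hA v => by
  rcases mem_center_iff.1 hA with h | h <;> simp [h, neg_mulVec]

theorem planeStab_ne_top : planeStab F ≠ ⊤ := fun htop => by
  obtain ⟨A, hA⟩ := transitive_ne_zero_matrix (Pi.single (Sum.inl 0) (1 : F) : V6) (Pi.single (Sum.inl 1) 1)
    (by simp) (by simp)
  have h := ((htop.symm ▸ Subgroup.mem_top A : A ∈ planeStab F) (Pi.single (Sum.inl 0) 1)).2
    (Submodule.subset_span (by simp))
  rw [hA, stdPlane, Submodule.mem_span_pair] at h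
  obtain ⟨p, r, h⟩ := h
  simpa using congrFun h (Sum.inl 1)

variable {E : Type} [Field E] [Algebra F E]

/-- Transport of the symplectic group to the model. -/
noncomputable def toModel (L : V6 ≃ₗ[F] E × E) : symplecticGroup (Fin 3) F →* ((E × E) ≃ₗ[F] (E × E)) where
  toFun A := L.symm.trans ((toEquiv 3 F A).trans L)
  map_one' := LinearEquiv.ext fun v => by simp
  map_mul' A B := LinearEquiv.ext fun v => by simp [LinearEquiv.mul_apply, mulVec_mulVec]

theorem toModel_apply (L : V6 ≃ₗ[F] E × E) (A : symplecticGroup (Fin 3) F) (v : E × E) :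
    toModel L A v = L (A.1 *ᵥ L.symm v) := rfl

theorem center_le_comap (L : V6 ≃ₗ[F] E × E) :
    Subgroup.center (symplecticGroup (Fin 3) F) ≤ (semiGroup F E).comap (toModel L) := fun A hA => by
  refine ⟨AlgEquiv.refl, fun c x => ?_⟩
  rcases mem_center_iff.1 hA with h | h <;> simp [toModel_apply, h, neg_mulVec]

variable [Fintype F] [CharP F 3] [FiniteDimensional F E]

theorem comap_semiGroup_ne_top (hE : finrank F E = 3) (L : V6 ≃ₗ[F] E × E)
    (hL : ∀ u v, modelForm F E (L u) (L v) = Cfsg.sympForm 3 F u v) :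
    (semiGroup F E).comap (toModel L) ≠ ⊤ := fun htop => by
  let t : (E × E) ≃ₗ[F] (E × E) :=
    { toFun := fun x => (x.1 + algebraMap F E (Algebra.trace F E x.2), x.2)
      invFun := fun x => (x.1 - algebraMap F E (Algebra.trace F E x.2), x.2)
      map_add' := fun x y => by ext <;> simp [add_add_add_comm]
      map_smul' := fun c x => by
        ext
        · show c • x.1 + algebraMap F E (Algebra.trace F E (c • x.2)) =
            c • (x.1 + algebraMap F E (Algebra.trace F E x.2))
          rw [map_smul, smul_eq_mul, map_mul, smul_add, Algebra.smul_def c (algebraMap F E _)]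
        · rfl
      left_inv := fun x => by simp
      right_inv := fun x => by simp }
  have ht : ∀ x y, modelForm F E (t x) (t y) = modelForm F E x y := fun x y => by
    have e : ∀ (w : F) (z : E), Algebra.trace F E (algebraMap F E w * z) = w * Algebra.trace F E z := fun w z => by
      rw [← Algebra.smul_def, map_smul, smul_eq_mul]
    show Algebra.trace F E (x.2 * (y.1 + algebraMap F E (Algebra.trace F E y.2)) -
      (x.1 + algebraMap F E (Algebra.trace F E x.2)) * y.2) = _
    rw [modelForm_apply, add_mul, mul_add, map_sub, map_add, map_add, map_sub, mul_comm x.2 (algebraMap F E _), e, e]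
    ring
  obtain ⟨A, hA⟩ := exists_toEquiv_eq (g := L.trans (t.trans L.symm)) (fun u v => by
    simp only [sympBilin_apply, ← hL, LinearEquiv.trans_apply, LinearEquiv.apply_symm_apply, ht])
  obtain ⟨σ, hσ⟩ : toModel L A ∈ semiGroup F E := (htop.symm ▸ Subgroup.mem_top A :)
  have hAt : ∀ x, toModel L A x = t x := fun x => by
    rw [toModel_apply, ← toEquiv_apply, hA]; simp
  obtain ⟨e, he⟩ := exists_trace_one (F := F) hE
  have he0 : e ≠ 0 := fun h => by simp [h] at he
  have hc : ∀ c : E, c ∈ Set.range (algebraMap F E) := fun c => by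
    have h := hσ c (0, e)
    rw [hAt, hAt] at h
    simp [t, he] at h
    obtain ⟨h1, h2⟩ := h
    rcases h2 with h2 | h2
    · exact ⟨_, h1⟩
    · exact absurd h2 he0
  have hb : Function.Surjective (Algebra.linearMap F E) := hc
  have := LinearMap.finrank_le_finrank_of_injective (f := (LinearEquiv.ofBijective (Algebra.linearMap F E)
    ⟨(algebraMap F E).injective, hb⟩).symm.toLinearMap) (LinearEquiv.injective _)
  rw [hE, finrank_self] at this
  omega

/-- `PSp₆(3^a)`. -/
theorem psp_six : TwoCovered (Cfsg.PSp 3 F) := by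
  have : Fact (Nat.Prime 3) := ⟨by norm_num⟩
  let E := FiniteField.Extension F 3 3
  have hE : finrank F E = 3 := FiniteField.finrank_extension F 3 3
  obtain ⟨L, hL⟩ := exists_std_equiv (modelForm F E) (modelForm_isAlt hE) (modelForm_separatingLeft hE) (k := 3)
    (finrank_model hE)
  refine twoCovered_quotient (planeStab F) ((semiGroup F E).comap (toModel L)) center_le_planeStab (center_le_comap L)
    planeStab_ne_top (comap_semiGroup_ne_top hE L hL) fun A => ?_
  have h3 : (3 : F) = 0 := CharP.cast_eq_zero F 3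
  have S : Setup (sympBilin 3 F) (toEquiv 3 F A) := ⟨fun h2 => one_ne_zero (α := F) (by linear_combination h3 - h2),
    sympBilin_isAlt, sympBilin_separatingLeft, toEquiv_mem_isom A⟩
  have hdim : finrank F V6 = 6 := by simp
  by_cases hp : HasPlane (sympBilin 3 F) (toEquiv 3 F A)
  · obtain ⟨u, w, h1, h2, h3⟩ := hp
    rw [sympBilin_apply] at h1
    obtain ⟨X, hu, hw⟩ := transitive_hyperbolic_matrix u w (Pi.single (Sum.inr 0) (1 : F))
      (Pi.single (Sum.inl 0) 1) h1 (by simp [sympForm_eq_sum, Fin.sum_univ_three])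
    refine ⟨X, Or.inl fun v => ?_⟩
    have himg : (Submodule.span F {u, w}).map (toEquiv 3 F X).toLinearMap = stdPlane F := by
      rw [Submodule.map_span, Set.image_pair]
      simp only [LinearEquiv.coe_coe, toEquiv_apply, hu, hw]
      rfl
    have hinv : (Submodule.span F {u, w}).map (toEquiv 3 F A).toLinearMap = Submodule.span F {u, w} := by
      refine Submodule.eq_of_le_of_finrank_eq ?_ (LinearEquiv.finrank_map_eq (toEquiv 3 F A) _)
      rw [Submodule.map_le_iff_le_comap, Submodule.span_le]
      rintro z (rfl | rfl)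
      · exact h2
      · exact h3
    have hfix : (stdPlane F).map (toEquiv 3 F (X * A * X⁻¹)).toLinearMap = stdPlane F := by
      conv_lhs => rw [← himg, ← Submodule.map_comp]
      conv_rhs => rw [← himg, ← hinv, ← Submodule.map_comp]
      congr 1
      refine LinearMap.ext fun z => ?_
      show toEquiv 3 F (X * A * X⁻¹) (toEquiv 3 F X z) = toEquiv 3 F X (toEquiv 3 F A z)
      rw [← LinearEquiv.mul_apply, ← LinearEquiv.mul_apply, ← map_mul, ← map_mul, inv_mul_cancel_right]
    conv_lhs => rw [← hfix]
    exact (toEquiv 3 F (X * A * X⁻¹)).injective.mem_set_image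
  · obtain ⟨T, hiso, hmem⟩ := exists_conj_semi hE S hdim hp
    obtain ⟨X, hX⟩ := exists_toEquiv_eq (g := T.trans L.symm) (fun u v => by
      rw [sympBilin_apply, ← hL, LinearEquiv.trans_apply, LinearEquiv.trans_apply, LinearEquiv.apply_symm_apply,
        LinearEquiv.apply_symm_apply, hiso])
    refine ⟨X, Or.inr ?_⟩
    have e : toModel L (X * A * X⁻¹) = T.symm.trans ((toEquiv 3 F A).trans T) := LinearEquiv.ext fun v => by
      show L (toEquiv 3 F (X * A * X⁻¹) (L.symm v)) = T (toEquiv 3 F A (T.symm v))
      rw [map_mul, map_mul, map_inv, LinearEquiv.mul_apply, LinearEquiv.mul_apply, hX]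
      show L (L.symm (T (toEquiv 3 F A (T.symm (L (L.symm v)))))) = _
      rw [L.apply_symm_apply, L.apply_symm_apply]
    show toModel L (X * A * X⁻¹) ∈ semiGroup F E
    rw [e]
    exact hmem

end CfsgLib.NormalCover.SpSix
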